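import Cfsg.Agent.H397.Rk.Elem2

/-!
# Elements of `POmega` of order `r`, `r p`, `r s` (helper397)
-/

set_option autoImplicit false
set_option linter.unusedSectionVars false
set_option linter.style.haveILetI false

namespace Cfsg.Agent.H397.Rk

open QuadraticMap Cfsg.Agent.LieClassical.OrthCore Cfsg.Agent.LieClassical.OrthTrans
  Cfsg.Agent.LieClassical.OrthSimple Cfsg.Agent.LieClassical.OrthFinite
  Cfsg.Agent.ClassicalGeometry.OrthAut1 Cfsg.Agent.ClassicalGeometry.OrthAut2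
  Cfsg.Agent.ClassicalGeometry.OrthAut3

variable {F : Type} [Field F] [Fintype F] {ι : Type} [Fintype ι] [DecidableEq ι] {Q : QuadraticForm F (ι → F)}

theorem nondegenerate_of_nondeg (h : Nondeg Q) : (polarBilin Q).Nondegenerate := by
  have hrefl : (polarBilin Q).IsRefl := by
    intro u v huv
    rw [polarBilin_apply_apply] at huv ⊢
    rw [QuadraticMap.polar_comm, huv]
  rw [hrefl.nondegenerate_iff_separatingLeft]
  intro u hu
  exact h u hu

/-- elements of order `r` in `E Q` with fixed space `X` of codimension `W` -/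
structure Elt (Q : QuadraticForm F (ι → F)) (r W : ℕ) (y : ↥(E Q)) (X : Submodule F (ι → F)) : Prop where
  ord : orderOf y = r
  mem : ∀ x, x ∈ X ↔ (y : (ι → F) ≃ₗ[F] (ι → F)) x = x
  nd : NDs Q X
  fin : Module.finrank F X + W = Fintype.card ι

/-- the dimension of the nontrivial part of an atom -/
noncomputable def wd (q r : ℕ) : ℕ := if Odd (orderOf (q : ZMod r)) then 2 * orderOf (q : ZMod r) else orderOf (q : ZMod r)

theorem exists_elt (hG : Good Q) (hn : 5 ≤ Fintype.card ι) {r : ℕ} (hr : r.Prime) (hr2 : r ≠ 2) (hrF : (r : F) ≠ 0)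
    (hd : r ∣ Nat.card (Cfsg.isometryGroup F ⇑Q)) :
    ∃ (y : ↥(E Q)) (X : Submodule F (ι → F)), Elt Q r (wd (Fintype.card F) r) y X := by
  have hQ := nondegenerate_of_nondeg hG.nondeg
  obtain ⟨W, j, y, hy, hW⟩ := FxOrth.exists_atom hQ hn hr hr2 hrF hd
  set e : ↥(Cfsg.Omega F ⇑Q) ≃* ↥(E Q) := (omegaEquiv Q).trans (MulEquiv.subgroupCongr hG.commutator_eq_E) with he
  refine ⟨e y, Cfsg.Agent.H104.AtomQuad.fixS (Cfsg.Agent.H104.AtomIsom.toLE (Cfsg.Agent.H104.IrrOmega.oGL Q y)),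
    ?_, ?_, ?_, ?_⟩
  · rw [MulEquiv.orderOf_eq]
    exact hy.ord
  · intro x
    rw [Cfsg.Agent.H104.AtomQuad.mem_fixS, Cfsg.Agent.H104.AtomIsom.toLE_apply]
    rfl
  · exact hy.nd hQ hn hrF
  · unfold wd
    rw [← hW]
    exact hy.fix

theorem exists_zero_vec {X : Submodule F (ι → F)} (h : 1 ≤ Module.finrank F X) : ∃ v ∈ X, v ≠ 0 := by
  have h1 : X ≠ ⊥ := by
    rintro rfl
    rw [finrank_bot] at h
    omega
  exact Submodule.exists_mem_ne_zero_of_ne_bot h1

/-- there is an element of order `n` -/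
def HasOrd (G : Type*) [Group G] (n : ℕ) : Prop := ∃ g : G, orderOf g = n

theorem HasOrd.of_equiv {G H : Type*} [Group G] [Group H] (e : G ≃* H) {n : ℕ} (h : HasOrd H n) : HasOrd G n := by
  obtain ⟨g, hg⟩ := h
  exact ⟨e.symm g, by rw [MulEquiv.orderOf_eq]; exact hg⟩

theorem hasOrd_mul {a b : ↥(E Q)} {m n : ℕ} (ha : orderOf (mk a) = m) (hb : orderOf (mk b) = n)
    (hab : a * b = b * a) (hmn : Nat.Coprime m n) : HasOrd (P Q) (m * n) :=
  exists_mul_order ha hb (by rw [← map_mul, hab, map_mul]) hmn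

section

variable (hG : Good Q) {r W : ℕ} {y : ↥(E Q)} {X : Submodule F (ι → F)} (h : Elt Q r W y X)

include hG h

theorem Elt.hasOrd_self (hr : r.Prime) (hr2 : r ≠ 2) : HasOrd (P Q) r :=
  ⟨Rk.mk y, orderOf_mk_of_prime hG hr hr2 h.ord⟩

theorem Elt.hasOrd_p (hr : r.Prime) (hr2 : r ≠ 2) {p : ℕ} (hp : p.Prime) [CharP F p] (hrp : r ≠ p)
    (hd : 3 ≤ Module.finrank F X) : HasOrd (P Q) (r * p) := by
  obtain ⟨t, ht, hl, v, hv, hfix⟩ := exists_unip hG hp X hd
  refine hasOrd_mul (orderOf_mk_of_prime hG hr hr2 h.ord) ((orderOf_mk_of_fix hG hv hfix).trans ht)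
    (hl y fun x hx => (h.mem x).1 hx) ((Nat.coprime_primes hr hp).2 hrp)

theorem Elt.hasOrd_s (hr : r.Prime) (hr2 : r ≠ 2) {p : ℕ} (hp : p.Prime) [CharP F p] (hrs : r ≠ sp p)
    (hd : 3 ≤ Module.finrank F X) : HasOrd (P Q) (r * sp p) := by
  obtain ⟨t, ht, hl, Y, hY, hfix, hfr⟩ := exists_rot hG hp h.nd hd
  have h1 : Module.finrank F X ≤ Fintype.card ι := by
    have := h.fin
    omega
  obtain ⟨v, hvY, hv⟩ := exists_zero_vec (X := Y) (by omega)
  refine hasOrd_mul (orderOf_mk_of_prime hG hr hr2 h.ord) ((orderOf_mk_of_fix hG hv (hfix v hvY)).trans ht)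
    (hl y fun x hx => (h.mem x).1 hx) ((Nat.coprime_primes hr (sp_prime p)).2 hrs)

end

theorem hasOrd_p (hG : Good Q) {p : ℕ} (hp : p.Prime) [CharP F p] (hn : 3 ≤ Fintype.card ι) : HasOrd (P Q) p := by
  obtain ⟨t, ht, -, v, hv, hfix⟩ := exists_unip hG hp ⊤ (by
    rw [finrank_top, Module.finrank_fintype_fun_eq_card]; exact hn)
  exact ⟨mk t, (orderOf_mk_of_fix hG hv hfix).trans ht⟩

theorem hasOrd_ps (hG : Good Q) {p : ℕ} (hp : p.Prime) [CharP F p] (hn : 5 ≤ Fintype.card ι) :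
    HasOrd (P Q) (p * sp p) := by
  obtain ⟨t, ht, -, Y, hY, hfix, hfr⟩ := exists_rot hG hp (nds_top hG.nondeg) (by
    rw [finrank_top, Module.finrank_fintype_fun_eq_card]; omega)
  obtain ⟨v, hvY, hv⟩ := exists_zero_vec (X := Y) (by omega)
  obtain ⟨u, hu, hl, w, hw, hwf⟩ := exists_unip hG hp Y (by omega)
  exact hasOrd_mul ((orderOf_mk_of_fix hG hw hwf).trans hu) ((orderOf_mk_of_fix hG hv (hfix v hvY)).trans ht)
    (hl t hfix).symm ((Nat.coprime_primes hp (sp_prime p)).2 (sp_ne).symm)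

end Cfsg.Agent.H397.Rk
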