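import Cfsg.Agent.H397.FxOrthC
import Cfsg.Agent.ClassicalGeometry.OrthAut3

/-!
# Elements of `P Q` of order `r n` commuting decompositions (helper397)
-/

set_option autoImplicit false
set_option linter.unusedSectionVars false
set_option linter.style.haveILetI false

namespace Cfsg.Agent.H397.Rk

open QuadraticMap Cfsg.Agent.LieClassical.OrthCore Cfsg.Agent.LieClassical.OrthTrans
  Cfsg.Agent.LieClassical.OrthSimple Cfsg.Agent.LieClassical.OrthFinite
  Cfsg.Agent.ClassicalGeometry.OrthAut1 Cfsg.Agent.ClassicalGeometry.OrthAut2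
  Cfsg.Agent.ClassicalGeometry.OrthAut3

variable {F V : Type*} [Field F] [AddCommGroup V] [Module F V] {Q : QuadraticForm F V}

/-- the class in `P Q` -/
abbrev mk : ↥(E Q) →* P Q := QuotientGroup.mk' (Subgroup.center ↥(E Q))

theorem mk_eq_one (hG : Good Q) {g : ↥(E Q)} (h : mk g = 1) : ∃ c : F, ∀ v, (g : V ≃ₗ[F] V) v = c • v := by
  rw [QuotientGroup.mk'_apply, QuotientGroup.eq_one_iff] at h
  exact center_scalar hG h

theorem coe_pow_apply (g : ↥(E Q)) {v : V} (h : (g : V ≃ₗ[F] V) v = v) (k : ℕ) :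
    ((g ^ k : ↥(E Q)) : V ≃ₗ[F] V) v = v := by
  induction k with
  | zero => rfl
  | succ k ih =>
    rw [pow_succ]
    show ((g ^ k : ↥(E Q)) : V ≃ₗ[F] V) ((g : V ≃ₗ[F] V) v) = v
    rw [h, ih]

/-- an element fixing a nonzero vector -/
theorem orderOf_mk_of_fix (hG : Good Q) {t : ↥(E Q)} {v : V} (hv : v ≠ 0) (h : (t : V ≃ₗ[F] V) v = v) :
    orderOf (mk t) = orderOf t := by
  apply Nat.dvd_antisymm
  · exact orderOf_map_dvd _ t
  · rw [orderOf_dvd_iff_pow_eq_one]
    have h1 : mk (t ^ orderOf (mk t)) = 1 := by rw [map_pow]; exact pow_orderOf_eq_one _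
    obtain ⟨c, hc⟩ := mk_eq_one hG h1
    have h2 := hc v
    rw [coe_pow_apply t h] at h2
    have h3 : (1 - c) • v = 0 := by rw [sub_smul, one_smul, ← h2, sub_self]
    have h4 : c = 1 := by
      rcases smul_eq_zero.1 h3 with h5 | h5
      · exact (sub_eq_zero.1 h5).symm
      · exact absurd h5 hv
    apply Subtype.ext
    ext w
    rw [hc w, h4, one_smul]
    rfl

theorem exists_Q_ne (hG : Good Q) : ∃ v : V, Q v ≠ 0 := by
  obtain ⟨x, y, h⟩ := hG.exists_hyp
  refine ⟨x + y, ?_⟩
  rw [Q_add, h.left, h.right, h.pair]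
  simp

/-- an element of odd prime order -/
theorem orderOf_mk_of_prime (hG : Good Q) {y : ↥(E Q)} {r : ℕ} (hr : r.Prime) (hr2 : r ≠ 2)
    (hy : orderOf y = r) : orderOf (mk y) = r := by
  haveI : Fact r.Prime := ⟨hr⟩
  have hyr : y ^ r = 1 := by rw [← hy]; exact pow_orderOf_eq_one y
  refine orderOf_eq_prime (by rw [← map_pow, hyr, map_one]) ?_
  intro h
  obtain ⟨c, hc⟩ := mk_eq_one hG h
  obtain ⟨v, hv⟩ := exists_Q_ne hG
  have hc2 : c * c = 1 := by
    have h1 := Q_apply y v
    rw [hc, QuadraticMap.map_smul, smul_eq_mul] at h1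
    exact mul_right_cancel₀ hv (by rw [h1, one_mul])
  have hpow : ∀ (k : ℕ) (w : V), ((y ^ k : ↥(E Q)) : V ≃ₗ[F] V) w = c ^ k • w := by
    intro k
    induction k with
    | zero => intro w; rw [pow_zero, pow_zero, one_smul]; rfl
    | succ k ih =>
      intro w
      rw [pow_succ]
      show ((y ^ k : ↥(E Q)) : V ≃ₗ[F] V) ((y : V ≃ₗ[F] V) w) = _
      rw [hc, ih, smul_smul, ← pow_succ]
  have hv0 : v ≠ 0 := by
    rintro rfl
    exact hv (map_zero Q)
  have hcr : c ^ r = 1 := by
    have h1 := hpow r v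
    rw [hyr] at h1
    have h2 : v = c ^ r • v := h1
    have h3 : (1 - c ^ r) • v = 0 := by rw [sub_smul, one_smul, ← h2, sub_self]
    rcases smul_eq_zero.1 h3 with h5 | h5
    · exact (sub_eq_zero.1 h5).symm
    · exact absurd h5 hv0
  have hc1 : c = 1 := by
    obtain ⟨k, hk⟩ := hr.odd_of_ne_two hr2
    rw [hk, pow_succ, pow_mul, pow_two, hc2, one_pow, one_mul] at hcr
    exact hcr
  have h1 : y = 1 := by
    apply Subtype.ext
    ext w
    rw [hc w, hc1, one_smul]
    rfl
  rw [h1, orderOf_one] at hy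
  exact hr.one_lt.ne hy

theorem exists_mul_order {G : Type*} [Group G] {a b : G} {m n : ℕ} (ha : orderOf a = m) (hb : orderOf b = n)
    (hab : a * b = b * a) (hmn : Nat.Coprime m n) : ∃ g : G, orderOf g = m * n := by
  refine ⟨a * b, ?_⟩
  have h := Commute.orderOf_mul_eq_mul_orderOf_of_coprime (show Commute a b from hab) (by rw [ha, hb]; exact hmn)
  rw [h, ha, hb]

/-! ### elements in a subspace -/

/-- non-degenerate subspace -/
def NDs (Q : QuadraticForm F V) (X : Submodule F V) : Prop :=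
  ∀ x ∈ X, (∀ y ∈ X, polar Q x y = 0) → x = 0

/-- all elements fixing `X` pointwise commute with `t` -/
def Loc (X : Submodule F V) (t : ↥(E Q)) : Prop :=
  ∀ g : ↥(E Q), (∀ x ∈ X, (g : V ≃ₗ[F] V) x = x) → g * t = t * g

theorem sg_pow {u w : V} (hu : Q u = 0) (hw : polar Q u w = 0) (n : ℕ) :
    (sg u w hu hw : ↥(E Q)) ^ n = sg u (n • w) hu (by
      rw [← Nat.cast_smul_eq_nsmul F, polar_smul_right, hw, smul_zero]) := by
  induction n with
  | zero =>
    rw [pow_zero]
    apply Subtype.ext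
    ext v
    show v = ((sg u ((0 : ℕ) • w) hu _ : ↥(E Q)) : V ≃ₗ[F] V) v
    rw [sg_apply]
    simp
  | succ n ih =>
    rw [pow_succ, ih, sg_mul]
    · apply sg_congr
      rw [succ_nsmul]
    · rw [polar_add_right, hw, ← Nat.cast_smul_eq_nsmul F, polar_smul_right, hw, smul_zero, add_zero]

/-- an element of order `p` in a non-degenerate subspace of dimension at least three -/
theorem exists_unip [Finite F] [FiniteDimensional F V] (hG : Good Q) {p : ℕ} (hp : p.Prime) [CharP F p]
    (X : Submodule F V) (hd : 3 ≤ Module.finrank F X) :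
    ∃ t : ↥(E Q), orderOf t = p ∧ Loc X t ∧ (∃ v ≠ 0, (t : V ≃ₗ[F] V) v = v) := by
  haveI : Fact p.Prime := ⟨hp⟩
  obtain ⟨u, huX, hu0, hu⟩ := exists_sing_mem (Q := Q) X hd
  -- `w`
  obtain ⟨w, hwX, huw, hwu⟩ : ∃ w ∈ X, polar Q u w = 0 ∧ ∀ c : F, w ≠ c • u := by
    by_contra hcon
    push Not at hcon
    have h1 : X ⊓ LinearMap.ker (polarBilin Q u) ≤ Submodule.span F {u} := by
      rintro w ⟨hw, hw'⟩
      obtain ⟨c, hc⟩ := hcon w hw hw'
      rw [hc]
      exact Submodule.smul_mem _ _ (Submodule.mem_span_singleton_self _)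
    have h2 := Submodule.finrank_mono h1
    rw [finrank_span_singleton hu0] at h2
    have h3 := LinearMap.finrank_range_add_finrank_ker ((polarBilin Q u).domRestrict X)
    have h4 : Module.finrank F ↥(LinearMap.range ((polarBilin Q u).domRestrict X)) ≤ 1 := by
      refine le_trans (Submodule.finrank_le _) ?_
      rw [Module.finrank_self]
    have h5 : Module.finrank F ↥(LinearMap.ker ((polarBilin Q u).domRestrict X)) =
        Module.finrank F ↥(X ⊓ LinearMap.ker (polarBilin Q u)) := by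
      have e : (LinearMap.ker ((polarBilin Q u).domRestrict X)).map X.subtype =
          X ⊓ LinearMap.ker (polarBilin Q u) := by
        ext v
        simp only [Submodule.mem_map, LinearMap.mem_ker, Submodule.mem_inf, Submodule.coe_subtype,
          LinearMap.domRestrict_apply]
        constructor
        · rintro ⟨⟨a, ha⟩, h, rfl⟩
          exact ⟨ha, h⟩
        · rintro ⟨ha, h⟩
          exact ⟨⟨v, ha⟩, h, rfl⟩
      rw [← e]
      exact (LinearEquiv.finrank_eq (Submodule.equivMapOfInjective X.subtype X.injective_subtype _))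
    omega
  refine ⟨sg u w hu huw, ?_, ?_, u, hu0, ?_⟩
  · refine orderOf_eq_prime ?_ ?_
    · rw [sg_pow]
      rw [sg_eq_one_iff hG.nondeg hu hu0]
      refine ⟨0, ?_⟩
      rw [zero_smul, ← Nat.cast_smul_eq_nsmul F, CharP.cast_eq_zero F p, zero_smul]
    · rw [Ne, sg_eq_one_iff hG.nondeg hu hu0]
      rintro ⟨c, hc⟩
      exact hwu c hc
  · intro g hg
    have h1 : (g : V ≃ₗ[F] V) u = u := hg u huX
    have h2 : (g : V ≃ₗ[F] V) w = w := hg w hwX
    have h3 := sg_conj g hu huw (by rw [h1]; exact hu) (by rw [h1, h2]; exact huw)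
    have h4 : (sg ((g : V ≃ₗ[F] V) u) ((g : V ≃ₗ[F] V) w) (by rw [h1]; exact hu) (by rw [h1, h2]; exact huw) : ↥(E Q))
        = sg u w hu huw := by
      apply Subtype.ext
      rw [coe_sg, coe_sg]
      simp only [h1, h2]
    rw [h4] at h3
    exact mul_inv_eq_iff_eq_mul.1 h3
  · rw [sg_apply, polar_self_of_sing hu, polar_comm Q w u, huw]
    simp

/-- product of two reflections -/
def rr (hG : Good Q) {v w : V} (hv : Q v ≠ 0) (hw : Q w ≠ 0) (h : Q v = Q w) : ↥(E Q) :=
  ⟨refl Q w hw * refl Q v hv, hG.refl_mul_refl_mem hv hw h⟩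

theorem rr_apply (hG : Good Q) {v w : V} (hv : Q v ≠ 0) (hw : Q w ≠ 0) (h : Q v = Q w) (x : V) :
    (rr hG hv hw h : V ≃ₗ[F] V) x = refl Q w hw (refl Q v hv x) := rfl

theorem rr_fix (hG : Good Q) {v w : V} (hv : Q v ≠ 0) (hw : Q w ≠ 0) (h : Q v = Q w) {x : V}
    (h1 : polar Q v x = 0) (h2 : polar Q w x = 0) : (rr hG hv hw h : V ≃ₗ[F] V) x = x := by
  have e : refl Q v hv x = x := by rw [refl_apply, h1, mul_zero, zero_smul, sub_zero]
  rw [rr_apply, e, refl_apply, h2, mul_zero, zero_smul, sub_zero]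

theorem rr_loc (hG : Good Q) {v w : V} (hv : Q v ≠ 0) (hw : Q w ≠ 0) (h : Q v = Q w) {X : Submodule F V}
    (hvX : v ∈ X) (hwX : w ∈ X) : Loc X (rr hG hv hw h) := by
  intro g hg
  have h1 : (g : V ≃ₗ[F] V) v = v := hg v hvX
  have h2 : (g : V ≃ₗ[F] V) w = w := hg w hwX
  have c1 : (g : V ≃ₗ[F] V) * refl Q v hv = refl Q v hv * (g : V ≃ₗ[F] V) := by
    have h3 := refl_conj (coe_mem_O g) hv (by rw [h1]; exact hv)
    have h4 : refl Q ((g : V ≃ₗ[F] V) v) (by rw [h1]; exact hv) = refl Q v hv := by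
      simp only [h1]
    rw [h4] at h3
    exact mul_inv_eq_iff_eq_mul.1 h3
  have c2 : (g : V ≃ₗ[F] V) * refl Q w hw = refl Q w hw * (g : V ≃ₗ[F] V) := by
    have h3 := refl_conj (coe_mem_O g) hw (by rw [h2]; exact hw)
    have h4 : refl Q ((g : V ≃ₗ[F] V) w) (by rw [h2]; exact hw) = refl Q w hw := by
      simp only [h2]
    rw [h4] at h3
    exact mul_inv_eq_iff_eq_mul.1 h3
  apply Subtype.ext
  show (g : V ≃ₗ[F] V) * (refl Q w hw * refl Q v hv) = refl Q w hw * refl Q v hv * (g : V ≃ₗ[F] V)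
  rw [← mul_assoc, c2, mul_assoc, c1, mul_assoc]

/-- the part of `X` orthogonal to `v` and `w` -/
def pp (Q : QuadraticForm F V) (X : Submodule F V) (v w : V) : Submodule F V :=
  (X ⊓ LinearMap.ker (polarBilin Q v)) ⊓ LinearMap.ker (polarBilin Q w)

theorem mem_pp {X : Submodule F V} {v w x : V} :
    x ∈ pp Q X v w ↔ (x ∈ X ∧ polar Q v x = 0) ∧ polar Q w x = 0 := Iff.rfl

theorem finrank_ker_le (X : Submodule F V) [FiniteDimensional F V] (f : V →ₗ[F] F) :
    Module.finrank F X ≤ Module.finrank F ↥(X ⊓ LinearMap.ker f) + 1 := by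
  have h1 := LinearMap.finrank_range_add_finrank_ker (f.domRestrict X)
  have h2 : Module.finrank F ↥(LinearMap.range (f.domRestrict X)) ≤ 1 := by
    refine le_trans (Submodule.finrank_le _) ?_
    rw [Module.finrank_self]
  have h3 : Module.finrank F ↥(LinearMap.ker (f.domRestrict X)) = Module.finrank F ↥(X ⊓ LinearMap.ker f) := by
    have e : (LinearMap.ker (f.domRestrict X)).map X.subtype = X ⊓ LinearMap.ker f := by
      ext v
      simp only [Submodule.mem_map, LinearMap.mem_ker, Submodule.mem_inf, Submodule.coe_subtype,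
        LinearMap.domRestrict_apply]
      constructor
      · rintro ⟨⟨a, ha⟩, h, rfl⟩
        exact ⟨ha, h⟩
      · rintro ⟨ha, h⟩
        exact ⟨⟨v, ha⟩, h, rfl⟩
    rw [← e]
    exact (LinearEquiv.finrank_eq (Submodule.equivMapOfInjective X.subtype X.injective_subtype _))
  omega

theorem finrank_pp (X : Submodule F V) [FiniteDimensional F V] (v w : V) :
    Module.finrank F X ≤ Module.finrank F ↥(pp Q X v w) + 2 := by
  have h1 := finrank_ker_le X (polarBilin Q v)
  have h2 := finrank_ker_le (X ⊓ LinearMap.ker (polarBilin Q v)) (polarBilin Q w)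
  change _ ≤ Module.finrank F ↥(pp Q X v w) + 1 at h2
  omega

/-- the complement of `⟨v, w⟩` in `X` is non-degenerate -/
theorem pp_nd {X : Submodule F V} (hX : NDs Q X) {v w : V} (hv : v ∈ X) (hw : w ∈ X)
    (hd : 4 * Q v * Q w - polar Q v w ^ 2 ≠ 0) : NDs Q (pp Q X v w) := by
  intro x hx h
  obtain ⟨⟨hxX, hvx⟩, hwx⟩ := mem_pp.1 hx
  apply hX x hxX
  intro z hz
  obtain ⟨d, hdd⟩ : ∃ d, d = 4 * Q v * Q w - polar Q v w ^ 2 := ⟨_, rfl⟩
  rw [← hdd] at hd
  obtain ⟨α, hα⟩ : ∃ α, α = (2 * Q w * polar Q v z - polar Q v w * polar Q w z) / d := ⟨_, rfl⟩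
  obtain ⟨β, hβ⟩ : ∃ β, β = (2 * Q v * polar Q w z - polar Q v w * polar Q v z) / d := ⟨_, rfl⟩
  have hα' : α * d = 2 * Q w * polar Q v z - polar Q v w * polar Q w z := by rw [hα]; field_simp
  have hβ' : β * d = 2 * Q v * polar Q w z - polar Q v w * polar Q v z := by rw [hβ]; field_simp
  have h1 : z - α • v - β • w ∈ pp Q X v w := by
    refine mem_pp.2 ⟨⟨X.sub_mem (X.sub_mem hz (X.smul_mem _ hv)) (X.smul_mem _ hw), ?_⟩, ?_⟩
    · rw [polar_sub_right, polar_sub_right, polar_smul_right, polar_smul_right, polar_self', smul_eq_mul,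
        smul_eq_mul]
      apply mul_right_cancel₀ hd
      rw [zero_mul, sub_mul, sub_mul]
      linear_combination (-2 * Q v) * hα' - polar Q v w * hβ' + polar Q v z * hdd
    · rw [polar_sub_right, polar_sub_right, polar_smul_right, polar_smul_right, polar_self', smul_eq_mul,
        smul_eq_mul, polar_comm Q w v]
      apply mul_right_cancel₀ hd
      rw [zero_mul, sub_mul, sub_mul]
      linear_combination (-2 * Q w) * hβ' - polar Q v w * hα' + polar Q w z * hdd
  have h2 := h _ h1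
  rw [polar_sub_right, polar_sub_right, polar_smul_right, polar_smul_right, polar_comm Q x v, polar_comm Q x w,
    hvx, hwx, smul_zero, smul_zero, sub_zero, sub_zero] at h2
  exact h2

theorem nds_top (hQ : Nondeg Q) : NDs Q (⊤ : Submodule F V) :=
  fun x _ h => hQ x fun y => h y trivial

/-- an involution -/
theorem rr_invol (hG : Good Q) (h2 : (2 : F) ≠ 0) {v w : V} (hv : Q v = 1) (hw : Q w = 1) (hvw : polar Q v w = 0) :
    orderOf (rr hG (by rw [hv]; exact one_ne_zero) (by rw [hw]; exact one_ne_zero) (hv.trans hw.symm) :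
      ↥(E Q)) = 2 := by
  have hv' : Q v ≠ 0 := by rw [hv]; exact one_ne_zero
  have hw' : Q w ≠ 0 := by rw [hw]; exact one_ne_zero
  refine orderOf_eq_prime ?_ ?_
  · apply Subtype.ext
    ext x
    rw [pow_two]
    show refl Q w hw' (refl Q v hv' (refl Q w hw' (refl Q v hv' x))) = x
    have hwv : polar Q w v = 0 := by rw [polar_comm]; exact hvw
    simp only [refl_apply, hv, hw, inv_one, one_mul, polar_sub_right, polar_smul_right, polar_self', hvw, hwv,
      smul_eq_mul, mul_zero, mul_one, sub_zero]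
    module
  · intro h
    have h3 := congrArg (fun g : ↥(E Q) => (g : V ≃ₗ[F] V) v) h
    have h4 : refl Q w hw' (refl Q v hv' v) = v := h3
    have hwv : polar Q w v = 0 := by rw [polar_comm]; exact hvw
    simp only [refl_apply, hv, hw, inv_one, one_mul, polar_sub_right, polar_smul_right, polar_self', hwv,
      smul_eq_mul, mul_zero, mul_one, sub_zero, zero_smul] at h4
    have h5 : (2 : F) • v = 0 := by
      have : (2 : F) • v = v - (v - (2 : F) • v) := by module
      rw [this, h4, sub_self]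
    rcases smul_eq_zero.1 h5 with h6 | h6
    · exact h2 h6
    · rw [h6, map_zero] at hv
      exact zero_ne_one hv

/-- a rotation of order three -/
theorem rr_three (hG : Good Q) {v w : V} (hv : Q v = 1) (hw : Q w = 1) (hvw : polar Q v w = 1) (h3 : (3 : F) ≠ 0) :
    orderOf (rr hG (by rw [hv]; exact one_ne_zero) (by rw [hw]; exact one_ne_zero) (hv.trans hw.symm) :
      ↥(E Q)) = 3 := by
  have hv' : Q v ≠ 0 := by rw [hv]; exact one_ne_zero
  have hw' : Q w ≠ 0 := by rw [hw]; exact one_ne_zero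
  have hwv : polar Q w v = 1 := by rw [polar_comm]; exact hvw
  haveI : Fact (Nat.Prime 3) := ⟨Nat.prime_three⟩
  refine orderOf_eq_prime ?_ ?_
  · apply Subtype.ext
    ext x
    rw [pow_succ, pow_two]
    show refl Q w hw' (refl Q v hv' (refl Q w hw' (refl Q v hv' (refl Q w hw' (refl Q v hv' x))))) = x
    simp only [refl_apply, hv, hw, inv_one, one_mul, polar_sub_right, polar_smul_right, polar_self', hvw, hwv,
      smul_eq_mul, mul_one]
    match_scalars <;> ring
  · intro h
    have h5 := congrArg (fun g : ↥(E Q) => (g : V ≃ₗ[F] V) v) h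
    have h4 : refl Q w hw' (refl Q v hv' v) = v := h5
    simp only [refl_apply, hv, hw, inv_one, one_mul, polar_sub_right, polar_smul_right, polar_self', hwv,
      smul_eq_mul, mul_one] at h4
    have h6 : (2 : F) • v = w := by
      have : (2 : F) • v = v - (v - (2 : F) • v - (1 - 2 : F) • w) + w := by module
      rw [this, h4, sub_self, zero_add]
    have h7 := congrArg (fun x => polar Q v x) h6
    simp only [polar_smul_right, polar_self', hv, hvw, smul_eq_mul, mul_one] at h7
    apply h3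
    linear_combination h7

/-- two reflections with different centres -/
theorem rr_ne_one (hG : Good Q) {v w : V} (hv : Q v ≠ 0) (hw : Q w ≠ 0) (h : Q v = Q w)
    (hne : ∀ c : F, v ≠ c • w) : (rr hG hv hw h : ↥(E Q)) ≠ 1 := by
  intro h1
  obtain ⟨x, hx⟩ : ∃ x, polar Q v x ≠ 0 := by
    by_contra hcon
    push Not at hcon
    apply hv
    rw [hG.nondeg v hcon, map_zero]
  have h2 := congrArg (fun g : ↥(E Q) => (g : V ≃ₗ[F] V) x) h1
  have h3 : refl Q w hw (refl Q v hv x) = x := h2
  have h4 : refl Q v hv x = refl Q w hw x := by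
    have h5 : refl Q w hw (refl Q w hw (refl Q v hv x)) = refl Q w hw x := by rw [h3]
    have h6 : refl Q w hw (refl Q w hw (refl Q v hv x)) = refl Q v hv x := reflLin_reflLin hw _
    rw [← h6, h5]
  rw [refl_apply, refl_apply] at h4
  have h7 : ((Q v)⁻¹ * polar Q v x) • v = ((Q w)⁻¹ * polar Q w x) • w := by
    have e : ((Q v)⁻¹ * polar Q v x) • v = x - (x - ((Q v)⁻¹ * polar Q v x) • v) := by module
    rw [e, h4]
    module
  have h8 : (Q v)⁻¹ * polar Q v x ≠ 0 := mul_ne_zero (inv_ne_zero hv) hx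
  apply hne (((Q v)⁻¹ * polar Q v x)⁻¹ * ((Q w)⁻¹ * polar Q w x))
  rw [mul_smul, ← h7, smul_smul, inv_mul_cancel₀ h8, one_smul]

end Cfsg.Agent.H397.Rk
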