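import Cfsg.Agent.H397.Rk.Frame
import Cfsg.Agent.ClassicalGeometry.OrthAut3
import Cfsg.Agent.H884.SingMax

/-!
# The rank 3 action of `P Q` on the singular points (helper397)
-/

set_option autoImplicit false
set_option linter.unusedSectionVars false
set_option linter.style.haveILetI false

namespace Cfsg.Agent.H397.Rk

open QuadraticMap Cfsg.Agent.LieClassical.OrthCore Cfsg.Agent.LieClassical.OrthTrans
  Cfsg.Agent.LieClassical.OrthSimple Cfsg.Agent.LieClassical.OrthFinite
  Cfsg.Agent.ClassicalGeometry.OrthAut1 Cfsg.Agent.ClassicalGeometry.OrthAut3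
  Cfsg.Agent.ClassicalGeometry.OrthAut2b

variable {F V : Type*} [Field F] [AddCommGroup V] [Module F V] {Q : QuadraticForm F V}

/-! ### counting -/

/-- the complement of a hyperbolic plane -/
def perp2 (Q : QuadraticForm F V) (x y : V) : Submodule F V :=
  LinearMap.ker (polarBilin Q x) ⊓ LinearMap.ker (polarBilin Q y)

theorem mem_perp2 {x y v : V} : v ∈ perp2 Q x y ↔ polar Q x v = 0 ∧ polar Q y v = 0 := Iff.rfl

theorem finrank_perp2 [FiniteDimensional F V] {x y : V} (h : Hyp Q x y) :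
    Module.finrank F ↥(perp2 Q x y) + 2 = Module.finrank F V := by
  have e : perp2 Q x y = LinearMap.ker ((polarBilin Q x).prod (polarBilin Q y)) := by
    rw [LinearMap.ker_prod]; rfl
  have h1 := LinearMap.finrank_range_add_finrank_ker ((polarBilin Q x).prod (polarBilin Q y))
  have h2 : LinearMap.range ((polarBilin Q x).prod (polarBilin Q y)) = ⊤ := by
    rw [LinearMap.range_eq_top]
    rintro ⟨a, b⟩
    refine ⟨a • y + b • x, ?_⟩
    apply Prod.ext
    · show polar Q x (a • y + b • x) = a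
      rw [polar_add_right, polar_smul_right, polar_smul_right, h.pair, h.polar_left]
      simp
    · show polar Q y (a • y + b • x) = b
      rw [polar_add_right, polar_smul_right, polar_smul_right, h.pair', h.polar_right]
      simp
  rw [h2, finrank_top, Module.finrank_prod, Module.finrank_self] at h1
  rw [e]
  omega

/-- the singular partners of `x` -/
noncomputable def partnerEquiv {x y : V} (h : Hyp Q x y) : {z // Hyp Q x z} ≃ ↥(perp2 Q x y) where
  toFun z := ⟨z.1 - polar Q y z.1 • x - y, by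
    rw [mem_perp2]
    constructor
    · rw [polar_sub_right, polar_sub_right, polar_smul_right, h.polar_left, z.2.pair, h.pair]
      simp
    · rw [polar_sub_right, polar_sub_right, polar_smul_right, h.polar_right, h.pair']
      simp⟩
  invFun w := ⟨y + w.1 - Q w.1 • x, h.left, by
    have h1 : polar Q x w.1 = 0 := w.2.1
    have h2 : polar Q y w.1 = 0 := w.2.2
    rw [sub_eq_add_neg, Q_add, Q_add, QuadraticMap.map_neg, QuadraticMap.map_smul, polar_neg_right,
      polar_smul_right, polar_add_left, h.pair', h.left, h.right, h2, polar_comm Q w.1 x, h1]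
    simp, by
    have h1 : polar Q x w.1 = 0 := w.2.1
    rw [polar_sub_right, polar_add_right, polar_smul_right, h.pair, h1, h.polar_left]
    simp⟩
  left_inv z := by
    apply Subtype.ext
    show y + (z.1 - polar Q y z.1 • x - y) - Q (z.1 - polar Q y z.1 • x - y) • x = z.1
    have h1 : Q (z.1 - polar Q y z.1 • x - y) = - polar Q y z.1 := by
      have e : z.1 - polar Q y z.1 • x - y = z.1 + (-(polar Q y z.1)) • x + (-1 : F) • y := by module
      rw [e, Q_add, Q_add, QuadraticMap.map_smul, QuadraticMap.map_smul, polar_smul_right,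
        polar_smul_right, polar_add_left, polar_smul_left, h.pair, h.left, h.right, z.2.right,
        polar_comm Q z.1 x, z.2.pair, polar_comm Q z.1 y]
      simp only [smul_eq_mul]
      ring
    rw [h1]
    module
  right_inv w := by
    have h1 : polar Q x w.1 = 0 := w.2.1
    have h2 : polar Q y w.1 = 0 := w.2.2
    apply Subtype.ext
    show (y + w.1 - Q w.1 • x) - polar Q y (y + w.1 - Q w.1 • x) • x - y = w.1
    have h3 : polar Q y (y + w.1 - Q w.1 • x) = - Q w.1 := by
      rw [polar_sub_right, polar_add_right, polar_smul_right, h.polar_right, h2, h.pair']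
      simp
    rw [h3]
    module

theorem card_partner [Finite F] [FiniteDimensional F V] {x y : V} (h : Hyp Q x y) :
    Nat.card {z // Hyp Q x z} = Nat.card F ^ (Module.finrank F V - 2) := by
  have := finite_V (F := F) (V := V)
  rw [Nat.card_congr (partnerEquiv h), Module.natCard_eq_pow_finrank (K := F)]
  congr 1
  have := finrank_perp2 h
  omega

/-- nonzero vectors of a line -/
theorem card_line [Finite F] (u : V) (hu : u ≠ 0) :
    Nat.card {v : V // v ≠ 0 ∧ v ∈ Submodule.span F {u}} = Nat.card F - 1 := by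
  classical
  have e : Fˣ ≃ {v : V // v ≠ 0 ∧ v ∈ Submodule.span F {u}} :=
    { toFun := fun c => ⟨(c : F) • u, smul_ne_zero c.ne_zero hu,
        Submodule.smul_mem _ _ (Submodule.mem_span_singleton_self _)⟩
      invFun := fun v => Units.mk0 (Submodule.mem_span_singleton.1 v.2.2).choose (by
        intro h0
        have h1 := (Submodule.mem_span_singleton.1 v.2.2).choose_spec
        rw [h0, zero_smul] at h1
        exact v.2.1 h1.symm)
      left_inv := fun c => by
        apply Units.ext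
        have h1 := (Submodule.mem_span_singleton.1 (Submodule.smul_mem (Submodule.span F {u}) (c : F)
          (Submodule.mem_span_singleton_self u))).choose_spec
        exact smul_left_injective F hu h1
      right_inv := fun v => by
        apply Subtype.ext
        exact (Submodule.mem_span_singleton.1 v.2.2).choose_spec }
  rw [← Nat.card_congr e, Nat.card_units]

/-- the number of singular points -/
theorem card_Pts_mul [Finite F] [FiniteDimensional F V] :
    Nat.card (Pts Q) * (Nat.card F - 1) + 1 = Nat.card {v : V // Q v = 0} := by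
  classical
  have := finite_V (F := F) (V := V)
  have := finite_Pts (F := F) (V := V) (Q := Q)
  have := Fintype.ofFinite (Pts Q)
  have e : {v : V // v ≠ 0 ∧ Q v = 0} ≃ Σ L : Pts Q, {v : V // v ≠ 0 ∧ v ∈ L.1} :=
    { toFun := fun v => ⟨⟨Submodule.span F {v.1}, v.1, v.2.1, v.2.2, rfl⟩, v.1, v.2.1,
        Submodule.mem_span_singleton_self _⟩
      invFun := fun p => ⟨p.2.1, p.2.2.1, by
        obtain ⟨⟨L, u, hu0, hu, rfl⟩, v, hv0, hv⟩ := p
        obtain ⟨c, rfl⟩ := Submodule.mem_span_singleton.1 hv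
        show Q (c • u) = 0
        rw [QuadraticMap.map_smul, hu, smul_zero]⟩
      left_inv := fun v => rfl
      right_inv := fun p => by
        obtain ⟨⟨L, u, hu0, hu, rfl⟩, v, hv0, hv⟩ := p
        obtain ⟨c, rfl⟩ := Submodule.mem_span_singleton.1 hv
        have hc : c ≠ 0 := by
          rintro rfl
          exact hv0 (zero_smul _ _)
        have h1 : Submodule.span F {c • u} = Submodule.span F {u} :=
          Submodule.span_singleton_smul_eq (IsUnit.mk0 c hc) u
        refine Sigma.ext (Subtype.ext h1) ?_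
        rw [Subtype.heq_iff_coe_eq]
        intro x
        show x ≠ 0 ∧ x ∈ Submodule.span F {c • u} ↔ _
        rw [h1] }
  have h1 : Nat.card {v : V // v ≠ 0 ∧ Q v = 0} = Nat.card (Pts Q) * (Nat.card F - 1) := by
    rw [Nat.card_congr e, Nat.card_sigma]
    rw [Finset.sum_congr rfl fun (L : Pts Q) _ => (by
      obtain ⟨L, u, hu0, hu, rfl⟩ := L
      exact card_line u hu0 : Nat.card {v : V // v ≠ 0 ∧ v ∈ L.1} = Nat.card F - 1)]
    rw [Finset.sum_const, Finset.card_univ, ← Nat.card_eq_fintype_card (α := Pts Q), smul_eq_mul]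
  rw [← h1]
  have h2 : {v : V | Q v = 0} = insert 0 {v : V | v ≠ 0 ∧ Q v = 0} := by
    ext v
    simp only [Set.mem_ofPred_eq, Set.mem_insert_iff]
    constructor
    · intro h
      by_cases h0 : v = 0
      · exact Or.inl h0
      · exact Or.inr ⟨h0, h⟩
    · rintro (rfl | h)
      · exact map_zero Q
      · exact h.2
  show Set.ncard {v : V | v ≠ 0 ∧ Q v = 0} + 1 = Set.ncard {v : V | Q v = 0}
  rw [h2, Set.ncard_insert_of_notMem (by simp) (Set.toFinite _)]

/-! ### the relation -/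

/-- collinearity -/
def Col (L M : Pts Q) : Prop := L ≠ M ∧ ∀ u ∈ L.1, ∀ v ∈ M.1, polar Q u v = 0

/-- the point of a singular vector -/
def pt (u : V) (hu0 : u ≠ 0) (hu : Q u = 0) : Pts Q := ⟨Submodule.span F {u}, u, hu0, hu, rfl⟩

theorem exists_pt (L : Pts Q) : ∃ (u : V) (hu0 : u ≠ 0) (hu : Q u = 0), L = pt u hu0 hu := by
  obtain ⟨L, u, hu0, hu, rfl⟩ := L
  exact ⟨u, hu0, hu, rfl⟩

theorem pt_eq_iff {u v : V} {hu0 : u ≠ 0} {hu : Q u = 0} {hv0 : v ≠ 0} {hv : Q v = 0} :
    pt u hu0 hu = pt v hv0 hv ↔ ∃ c : F, c • u = v := by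
  constructor
  · intro h
    have h1 : Submodule.span F {u} = Submodule.span F {v} := congrArg Subtype.val h
    have h2 : v ∈ Submodule.span F {u} := h1 ▸ Submodule.mem_span_singleton_self v
    exact Submodule.mem_span_singleton.1 h2
  · rintro ⟨c, rfl⟩
    have hc : c ≠ 0 := by
      rintro rfl
      exact hv0 (zero_smul _ _)
    exact Subtype.ext (Submodule.span_singleton_smul_eq (IsUnit.mk0 c hc) u).symm

theorem col_iff {u v : V} {hu0 : u ≠ 0} {hu : Q u = 0} {hv0 : v ≠ 0} {hv : Q v = 0} :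
    Col (pt u hu0 hu) (pt v hv0 hv) ↔ (∀ c : F, c • u ≠ v) ∧ polar Q u v = 0 := by
  unfold Col
  rw [Ne, pt_eq_iff]
  push Not
  refine and_congr_right fun _ => ⟨fun h => h u (Submodule.mem_span_singleton_self _) v
    (Submodule.mem_span_singleton_self _), fun h a ha b hb => ?_⟩
  obtain ⟨c, rfl⟩ := Submodule.mem_span_singleton.1 ha
  obtain ⟨d, rfl⟩ := Submodule.mem_span_singleton.1 hb
  rw [polar_smul_left, polar_smul_right, h, smul_zero, smul_zero]

/-- different, not collinear -/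
theorem not_col {u v : V} {hu0 : u ≠ 0} {hu : Q u = 0} {hv0 : v ≠ 0} {hv : Q v = 0} :
    (pt u hu0 hu ≠ pt v hv0 hv ∧ ¬ Col (pt u hu0 hu) (pt v hv0 hv)) ↔ polar Q u v ≠ 0 := by
  rw [col_iff, Ne, pt_eq_iff]
  constructor
  · rintro ⟨h1, h2⟩ h3
    push Not at h1
    exact h2 ⟨h1, h3⟩
  · intro h
    refine ⟨?_, fun h2 => h h2.2⟩
    rintro ⟨c, rfl⟩
    apply h
    rw [polar_smul_right, polar_self_of_sing hu, smul_zero]

theorem smul_pt (hG : Good Q) (g : ↥(E Q)) {u : V} (hu0 : u ≠ 0) (hu : Q u = 0) :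
    (ptsAct hG).toSMul.smul ((g : ↥(E Q)) : P Q) (pt u hu0 hu) =
      pt ((g : V ≃ₗ[F] V) u) (fun h => hu0 ((g : V ≃ₗ[F] V).map_eq_zero_iff.1 h))
        (by rw [Cfsg.Agent.ClassicalGeometry.OrthAut2.Q_apply]; exact hu) := by
  apply Subtype.ext
  show pact hG ((g : ↥(E Q)) : P Q) (Submodule.span F {u}) = _
  rw [pact_mk, mapHom_span]
  rfl

/-- the number of points not collinear -/
theorem card_opp [Finite F] [FiniteDimensional F V] (hG : Good Q) (L : Pts Q) :
    Nat.card {M : Pts Q // L ≠ M ∧ ¬ Col L M} = Nat.card F ^ (Module.finrank F V - 2) := by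
  classical
  obtain ⟨u, hu0, hu, rfl⟩ := exists_pt L
  obtain ⟨y, hy⟩ := Cfsg.Agent.LieClassical.OrthTrans.exists_hyp hG.nondeg hu hu0
  rw [← card_partner hy]
  symm
  refine Nat.card_congr (Equiv.ofBijective (fun z : {z // Hyp Q u z} =>
    (⟨pt z.1 z.2.right_ne z.2.right, not_col.2 (by rw [z.2.pair]; exact one_ne_zero)⟩ :
      {M : Pts Q // pt u hu0 hu ≠ M ∧ ¬ Col (pt u hu0 hu) M})) ⟨?_, ?_⟩)
  · intro z w hzw
    have h1 : pt z.1 z.2.right_ne z.2.right = pt w.1 w.2.right_ne w.2.right := congrArg Subtype.val hzw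
    obtain ⟨c, hc⟩ := pt_eq_iff.1 h1
    apply Subtype.ext
    have h2 := w.2.pair
    rw [← hc, polar_smul_right, z.2.pair, smul_eq_mul, mul_one] at h2
    rw [← hc, h2, one_smul]
  · rintro ⟨M, hM⟩
    obtain ⟨v, hv0, hv, rfl⟩ := exists_pt M
    have h1 := not_col.1 hM
    have hyp : Hyp Q u ((polar Q u v)⁻¹ • v) := by
      refine ⟨hu, ?_, ?_⟩
      · rw [QuadraticMap.map_smul, hv, smul_zero]
      · rw [polar_smul_right, smul_eq_mul, inv_mul_cancel₀ h1]
    refine ⟨⟨_, hyp⟩, Subtype.ext ?_⟩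
    show pt ((polar Q u v)⁻¹ • v) hyp.right_ne hyp.right = pt v hv0 hv
    symm
    rw [pt_eq_iff]
    exact ⟨(polar Q u v)⁻¹, rfl⟩

/-- **rank 3** -/
theorem rank3 [Finite F] [FiniteDimensional F V] (hG : Good Q) {k : ℕ} (hk : 0 < k)
    (hn : Nat.card (Pts Q) = 1 + k + Nat.card F ^ (Module.finrank F V - 2)) :
    letI := ptsAct hG
    Cfsg.Agent.H690.Spor.RankThree.R3 (P Q) (Pts Q) Col k (Nat.card F ^ (Module.finrank F V - 2)) := by
  letI := ptsAct hG
  have := finite_Pts (F := F) (V := V) (Q := Q)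
  have hsm : ∀ (g : ↥(E Q)) {u : V} (hu0 : u ≠ 0) (hu : Q u = 0),
    ((g : ↥(E Q)) : P Q) • (pt u hu0 hu : Pts Q) = pt ((g : V ≃ₗ[F] V) u)
      (fun h => hu0 ((g : V ≃ₗ[F] V).map_eq_zero_iff.1 h))
        (by rw [Cfsg.Agent.ClassicalGeometry.OrthAut2.Q_apply]; exact hu) :=
    fun g {u} hu0 hu => smul_pt hG g hu0 hu
  have key : ∀ {u u' : V} (hu0 : u ≠ 0) (hu : Q u = 0) (hu0' : u' ≠ 0) (hu' : Q u' = 0) (g : V ≃ₗ[F] V)
      (hg : g ∈ E Q) (c : F), g u = c • u' →
      (((⟨g, hg⟩ : ↥(E Q))) : P Q) • (pt u hu0 hu : Pts Q) = pt u' hu0' hu' := by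
    intro u u' hu0 hu hu0' hu' g hg c hc
    rw [hsm]
    symm
    rw [pt_eq_iff]
    exact ⟨c, hc.symm⟩
  have ht : MulAction.IsPretransitive (P Q) (Pts Q) := by
    constructor
    intro L M
    obtain ⟨u, hu0, hu, rfl⟩ := exists_pt L
    obtain ⟨v, hv0, hv, rfl⟩ := exists_pt M
    obtain ⟨g, hg, e⟩ := hG.trans_sing hu hv hu0 hv0
    exact ⟨_, key hu0 hu hv0 hv g hg 1 (by rw [e, one_smul])⟩
  refine ⟨ht, ?_, ?_, ?_, ?_, ?_, ?_, hk, ?_, hn⟩
  · rintro L M ⟨h1, h2⟩
    exact ⟨h1.symm, fun u hu v hv => by rw [polar_comm]; exact h2 v hv u hu⟩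
  · rintro L ⟨h1, -⟩
    exact h1 rfl
  · intro p L M h
    obtain ⟨g, rfl⟩ := QuotientGroup.mk_surjective p
    obtain ⟨u, hu0, hu, rfl⟩ := exists_pt L
    obtain ⟨v, hv0, hv, rfl⟩ := exists_pt M
    have h1 := col_iff.1 h
    show Col (((g : ↥(E Q)) : P Q) • (pt u hu0 hu : Pts Q)) (((g : ↥(E Q)) : P Q) • (pt v hv0 hv : Pts Q))
    rw [hsm, hsm, col_iff]
    refine ⟨fun c hc => h1.1 c ?_, ?_⟩
    · rw [← map_smul] at hc
      exact (g : V ≃ₗ[F] V).injective hc
    · rw [Cfsg.Agent.ClassicalGeometry.OrthAut2.polar_apply]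
      exact h1.2
  · intro L M L' M' h h'
    obtain ⟨u, hu0, hu, rfl⟩ := exists_pt L
    obtain ⟨v, hv0, hv, rfl⟩ := exists_pt M
    obtain ⟨u', hu0', hu', rfl⟩ := exists_pt L'
    obtain ⟨v', hv0', hv', rfl⟩ := exists_pt M'
    have h1 := col_iff.1 h
    have h1' := col_iff.1 h'
    obtain ⟨g, hg, e⟩ := hG.trans_sing hu hu' hu0 hu0'
    have hgv : Q (g v) = 0 := by rw [mem_O.1 (E_le_O hg)]; exact hv
    have hW : ∀ x : V, polar Q u' x = 0 → Cfsg.Agent.H884.SingMax.Perp Q (Submodule.span F {u'}) x := by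
      intro x hx w hw
      obtain ⟨c, rfl⟩ := Submodule.mem_span_singleton.1 hw
      rw [polar_smul_left, hx, smul_zero]
    have hdim : 2 * Module.finrank F ↥(Submodule.span F {u'}) + 3 ≤ Module.finrank F V := by
      rw [finrank_span_singleton hu0']
      have := hG.dim
      omega
    obtain ⟨g2, hg2, hfix, c, hc, e2⟩ := Cfsg.Agent.H884.SingMax.trans_in hG.nondeg
      (W := Submodule.span F {u'}) hdim hgv hv'
      (hW _ (by rw [← e, polar_map (E_le_O hg)]; exact h1.2)) (hW _ h1'.2) (by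
        intro hmem
        obtain ⟨c, hc⟩ := Submodule.mem_span_singleton.1 hmem
        apply h1.1 c
        apply g.injective
        rw [map_smul, e, hc]) (by
        intro hmem
        obtain ⟨c, hc⟩ := Submodule.mem_span_singleton.1 hmem
        exact h1'.1 c hc)
    refine ⟨_, key hu0 hu hu0' hu' (g2 * g) ((E Q).mul_mem hg2 hg) 1 ?_,
      key hv0 hv hv0' hv' (g2 * g) ((E Q).mul_mem hg2 hg) c ?_⟩
    · show g2 (g u) = _
      rw [e, hfix _ (Submodule.mem_span_singleton_self _), one_smul]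
    · show g2 (g v) = _
      exact e2
  · intro L M L' M' hne h hne' h'
    obtain ⟨u, hu0, hu, rfl⟩ := exists_pt L
    obtain ⟨v, hv0, hv, rfl⟩ := exists_pt M
    obtain ⟨u', hu0', hu', rfl⟩ := exists_pt L'
    obtain ⟨v', hv0', hv', rfl⟩ := exists_pt M'
    have h1 := not_col.1 ⟨hne, h⟩
    have h1' := not_col.1 ⟨hne', h'⟩
    have hy : Hyp Q u ((polar Q u v)⁻¹ • v) := by
      refine ⟨hu, ?_, ?_⟩
      · rw [QuadraticMap.map_smul, hv, smul_zero]
      · rw [polar_smul_right, smul_eq_mul, inv_mul_cancel₀ h1]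
    have hy' : Hyp Q u' ((polar Q u' v')⁻¹ • v') := by
      refine ⟨hu', ?_, ?_⟩
      · rw [QuadraticMap.map_smul, hv', smul_zero]
      · rw [polar_smul_right, smul_eq_mul, inv_mul_cancel₀ h1']
    obtain ⟨g, hg, e1, e2⟩ := hG.trans_hyp hy hy'
    refine ⟨_, key hu0 hu hu0' hu' g hg 1 (by rw [e1, one_smul]),
      key hv0 hv hv0' hv' g hg (polar Q u v * (polar Q u' v')⁻¹) ?_⟩
    rw [map_smul] at e2
    rw [mul_smul, ← e2, smul_smul, mul_inv_cancel₀ h1, one_smul]
  · intro L
    have h1 := card_opp hG L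
    have h2 : {M : Pts Q | L ≠ M ∧ ¬ Col L M} = (insert L {M : Pts Q | Col L M})ᶜ := by
      ext M
      simp only [Set.mem_ofPred_eq, Set.mem_compl_iff, Set.mem_insert_iff]
      push Not
      exact ⟨fun h => ⟨h.1.symm, h.2⟩, fun h => ⟨h.1.symm, h.2⟩⟩
    have h3 : Set.ncard {M : Pts Q | L ≠ M ∧ ¬ Col L M} = Nat.card F ^ (Module.finrank F V - 2) := h1
    have h4 := Set.ncard_add_ncard_compl (insert L {M : Pts Q | Col L M})
    rw [← h2, h3, Set.ncard_insert_of_notMem (fun h => h.1 rfl) (Set.toFinite _), hn] at h4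
    show Set.ncard {M : Pts Q | Col L M} = k
    omega
  · have : 0 < Nat.card F := Nat.card_pos
    positivity

/-- some common neighbour -/
theorem exists_conn (hG : Good Q) : ∃ x y z : Pts Q, x ≠ y ∧ ¬ Col x y ∧ Col x z ∧ Col z y := by
  obtain ⟨x, y, h⟩ := hG.exists_hyp
  obtain ⟨z, w, h2, hxz, hxw, hyz, hyw⟩ := hG.exists_hyp2 h
  have h3 := not_col (hu0 := h.left_ne) (hu := h.left) (hv0 := h.right_ne) (hv := h.right)
  refine ⟨pt x h.left_ne h.left, pt y h.right_ne h.right, pt z h2.left_ne h2.left,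
    (h3.2 (by rw [h.pair]; exact one_ne_zero)).1, (h3.2 (by rw [h.pair]; exact one_ne_zero)).2, ?_, ?_⟩
  · rw [col_iff]
    refine ⟨fun c hc => ?_, hxz⟩
    have := h2.pair
    rw [← hc, polar_smul_left, hxw, smul_zero] at this
    exact zero_ne_one this
  · rw [col_iff]
    refine ⟨fun c hc => ?_, by rw [polar_comm]; exact hyz⟩
    have := h.pair
    rw [← hc, polar_smul_right, hxz, smul_zero] at this
    exact zero_ne_one this

/-- a neighbour of `x` which is not a neighbour of `y` -/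
theorem exists_nonprim (hG : Good Q) : ∃ x y z : Pts Q, x ≠ y ∧ ¬ Col x y ∧ Col x z ∧ ¬ Col z y := by
  obtain ⟨x, y, h⟩ := hG.exists_hyp
  obtain ⟨z, w, h2, hxz, hxw, hyz, hyw⟩ := hG.exists_hyp2 h
  have h3 := not_col (hu0 := h.left_ne) (hu := h.left) (hv0 := h.right_ne) (hv := h.right)
  have hs : Q (x + z) = 0 := by rw [Q_add, h.left, h2.left, hxz]; simp
  have hs0 : x + z ≠ 0 := by
    intro h0
    have := h.pair
    have h4 : polar Q (x + z) y = 1 := by rw [polar_add_left, h.pair, polar_comm Q z y, hyz, add_zero]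
    rw [h0, polar_zero_left] at h4
    exact zero_ne_one h4
  refine ⟨pt x h.left_ne h.left, pt y h.right_ne h.right, pt (x + z) hs0 hs,
    (h3.2 (by rw [h.pair]; exact one_ne_zero)).1, (h3.2 (by rw [h.pair]; exact one_ne_zero)).2, ?_, ?_⟩
  · rw [col_iff]
    refine ⟨fun c hc => ?_, ?_⟩
    · have h5 : polar Q (x + z) w = 1 := by rw [polar_add_left, hxw, h2.pair, zero_add]
      rw [← hc, polar_smul_left, hxw, smul_zero] at h5
      exact zero_ne_one h5
    · rw [polar_add_right, h.polar_left, hxz, add_zero]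
  · rw [col_iff]
    rintro ⟨-, h6⟩
    rw [polar_add_left, h.pair, polar_comm Q z y, hyz, add_zero] at h6
    exact one_ne_zero h6

end Cfsg.Agent.H397.Rk
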