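import Cfsg.Agent.H397.Rk.TwoA
import Cfsg.Agent.Lib.Zsigmondy
import Cfsg.Agent.S0292
import Cfsg.Agent.S0293
import Cfsg.Agent.S0294

/-!
# Two characters with three zeros for the orthogonal groups: arithmetic (helper397)
-/

set_option autoImplicit false
set_option linter.unusedSectionVars false
set_option linter.style.haveILetI false

namespace Cfsg.Agent.H397.Rk

open QuadraticMap Cfsg Cfsg.Agent.LieClassical.OrthCore Cfsg.Agent.LieClassical.OrthTrans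
  Cfsg.Agent.LieClassical.OrthSimple Cfsg.Agent.LieClassical.OrthFinite
  Cfsg.Agent.ClassicalGeometry.OrthAut1 Cfsg.Agent.ClassicalGeometry.OrthAut2
  Cfsg.Agent.ClassicalGeometry.OrthAut3 Cfsg.Agent.H504.TwoZ Cfsg.Agent.H504.Zeros

/-- a primitive prime divisor of `q ^ n - 1` -/
structure Prim (q n r : ℕ) : Prop where
  prime : r.Prime
  iff : ∀ m, r ∣ q ^ m - 1 ↔ n ∣ m
  dvd : n ∣ r - 1
  ndvd : ¬ r ∣ q

theorem exists_prim {q n : ℕ} (hq : 2 ≤ q) (hn : 3 ≤ n) (h : ¬ (q = 2 ∧ n = 6)) : ∃ r, Prim q n r := by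
  obtain ⟨r, h1, h2, h3, h4⟩ := Cfsg.Agent.Lib.Zsigmondy.exists_primitive hq (by omega : 2 ≤ n)
    (fun h5 => absurd h5 (by omega)) h
  exact ⟨r, h1, h2, h3, h4⟩

theorem Prim.five {q n r : ℕ} (h : Prim q n r) (hn : 3 ≤ n) : 5 ≤ r := by
  have h1 := h.prime.two_le
  have h2 := Nat.le_of_dvd (by omega) h.dvd
  have h3 : r ≠ 4 := by
    rintro rfl
    have := h.prime
    revert this
    decide
  omega

theorem Prim.ord {q n r : ℕ} (h : Prim q n r) (hq : 2 ≤ q) : orderOf (q : ZMod r) = n :=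
  orderOf_of_iff (by omega) h.iff

theorem Prim.not_mul {q n r a b : ℕ} (h : Prim q n r) (ha : ¬ r ∣ a) (hb : ¬ r ∣ b) : ¬ r ∣ a * b := by
  rw [h.prime.dvd_mul, not_or]
  exact ⟨ha, hb⟩

theorem Prim.not_pow {q n r : ℕ} (h : Prim q n r) (k : ℕ) : ¬ r ∣ q ^ k :=
  fun h1 => h.ndvd (h.prime.dvd_of_dvd_pow h1)

theorem Prim.not_sub {q n r k : ℕ} (h : Prim q n r) (hk : 0 < k) (hkn : k < n) : ¬ r ∣ q ^ k - 1 := by
  rw [h.iff]
  exact Nat.not_dvd_of_pos_of_lt hk hkn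

theorem Prim.not_sub' {q n r k : ℕ} (h : Prim q n r) (hk : ¬ n ∣ k) : ¬ r ∣ q ^ k - 1 := by
  rwa [h.iff]

theorem sq_sub {q k : ℕ} : q ^ (2 * k) - 1 = (q ^ k - 1) * (q ^ k + 1) := by
  have h := Nat.sq_sub_sq (q ^ k) 1
  rw [one_pow] at h
  rw [mul_comm 2 k, pow_mul, h, mul_comm]

theorem Prim.not_add {q n r k : ℕ} (h : Prim q n r) (hk : ¬ n ∣ 2 * k) : ¬ r ∣ q ^ k + 1 := by
  intro h1
  apply hk
  rw [← h.iff, sq_sub]
  exact Dvd.dvd.mul_left h1 _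

theorem Prim.not_small {q n r k : ℕ} (h : Prim q n r) (hn : 3 ≤ n) (hk : 0 < k) (hk5 : k < 5) : ¬ r ∣ k :=
  fun h1 => by
    have := Nat.le_of_dvd hk h1
    have := h.five hn
    omega

theorem Prim.not_gcd {q n r k : ℕ} (h : Prim q n r) (hn : 3 ≤ n) : ¬ r ∣ Nat.gcd 4 k :=
  fun h1 => h.not_small hn (k := 4) (by norm_num) (by norm_num) (h1.trans (Nat.gcd_dvd_left 4 k))

theorem Prim.not_prod {q n r k j : ℕ} (h : Prim q n r) (hj : ∀ i < k, n ∣ 2 * (i + 1) → i = j) :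
    ¬ r ∣ ∏ i ∈ (Finset.range k).erase j, (q ^ (2 * (i + 1)) - 1) := by
  rw [Prime.dvd_finsetProd_iff h.prime.prime]
  rintro ⟨i, hi, hd⟩
  rw [Finset.mem_erase, Finset.mem_range] at hi
  exact hi.1 (hj i hi.2 ((h.iff _).1 hd))

theorem prod_split {q k j : ℕ} (hj : j < k) : ∏ i ∈ Finset.range k, (q ^ (2 * (i + 1)) - 1) =
    (q ^ (2 * (j + 1)) - 1) * ∏ i ∈ (Finset.range k).erase j, (q ^ (2 * (i + 1)) - 1) :=
  (Finset.mul_prod_erase _ (fun i => q ^ (2 * (i + 1)) - 1) (Finset.mem_range.2 hj)).symm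

theorem cast_sub {q : ℕ} (hq : 1 ≤ q) (k : ℕ) : ((q ^ k - 1 : ℕ) : ℤ) = (q : ℤ) ^ k - 1 := by
  rw [Nat.cast_sub (Nat.one_le_pow _ _ hq)]
  push_cast
  rfl

theorem pow_sub_pos {q k : ℕ} (hq : 2 ≤ q) (hk : 0 < k) : q ^ k - 1 ≠ 0 := by
  have : 1 < q ^ k := Nat.one_lt_pow hk.ne' (by omega)
  omega

/-- `q ^ 2 + 1` divides the order -/
theorem dvd_four {q k r : ℕ} (hk : 2 ≤ k) (h : r ∣ q ^ 2 + 1) :
    r ∣ ∏ i ∈ Finset.range k, (q ^ (2 * (i + 1)) - 1) := by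
  rw [prod_split (j := 1) (by omega)]
  refine Dvd.dvd.mul_right ?_ _
  rw [sq_sub]
  exact Dvd.dvd.mul_left h _

variable {F : Type} [Field F] [Fintype F] {ι : Type} [Fintype ι] [DecidableEq ι] {Q : QuadraticForm F (ι → F)}

theorem finite_pom : Finite (Cfsg.POmega F ⇑Q) := Quotient.finite _

section

variable (hG : Good Q) {q : ℕ} (hq : Fintype.card F = q) (h7 : 7 ≤ Fintype.card ι) {p : ℕ} (hp : p.Prime) [CharP F p]

include hG hq h7 hp

theorem row2_main (hS : IsSimpleGroup (Cfsg.POmega F ⇑Q)) (hna : ¬ IsMulCommutative (Cfsg.POmega F ⇑Q))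
    (hL : IsLieTypeChar p (Cfsg.POmega F ⇑Q))
    (h4 : ∀ r : ℕ, r ∣ q ^ 2 + 1 → r.Prime → r ≠ 2 → r ∣ Nat.card (Cfsg.POmega F ⇑Q)) :
    Row2 (Cfsg.POmega F ⇑Q) := by
  haveI := finite_pom (Q := Q)
  obtain ⟨s, hs3, hs⟩ := lie_orders hG hq h7 hp h4
  exact row2_of_lie_orders hp hna hL s hs hs3

theorem two_main (hS : IsSimpleGroup (Cfsg.POmega F ⇑Q)) (hna : ¬ IsMulCommutative (Cfsg.POmega F ⇑Q))
    (hL : IsLieTypeChar p (Cfsg.POmega F ⇑Q))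
    (h4 : ∀ r : ℕ, r ∣ q ^ 2 + 1 → r.Prime → r ≠ 2 → r ∣ Nat.card (Cfsg.POmega F ⇑Q)) {d : ℕ}
    (hdeg : HasDeg (Cfsg.POmega F ⇑Q) d) (t : Finset ℕ) (ht3 : 3 ≤ t.card)
    (ht : ∀ n ∈ t, HasOrd (Cfsg.POmega F ⇑Q) n ∧ ∃ r : ℕ, r.Prime ∧ ¬ r ∣ q ∧ r ∣ n ∧
      d.factorization r = (Nat.card (Cfsg.POmega F ⇑Q)).factorization r) :
    Two (Cfsg.POmega F ⇑Q) := by
  haveI := finite_pom (Q := Q)
  obtain ⟨s, hs3, hs⟩ := lie_orders hG hq h7 hp h4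
  refine two_of_deg hna hp hL hdeg s t hs3 ht3 hs fun n hn => ?_
  obtain ⟨h1, r, h2, h3, h4, h5⟩ := ht n hn
  refine ⟨h1, r, h2, ?_, h4, h5⟩
  rintro rfl
  apply h3
  obtain ⟨m, hp', hm⟩ := FiniteField.card F r
  rw [← hq, hm]
  exact dvd_pow_self r m.pos.ne'

theorem two_main_r (hS : IsSimpleGroup (Cfsg.POmega F ⇑Q)) (hna : ¬ IsMulCommutative (Cfsg.POmega F ⇑Q))
    (hL : IsLieTypeChar p (Cfsg.POmega F ⇑Q))
    (h4 : ∀ r : ℕ, r ∣ q ^ 2 + 1 → r.Prime → r ≠ 2 → r ∣ Nat.card (Cfsg.POmega F ⇑Q)) {d : ℕ}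
    (hdeg : HasDeg (Cfsg.POmega F ⇑Q) d) {r n : ℕ} (hr : Prim q n r) (hn : 3 ≤ n)
    (hrd : r ∣ Nat.card (Cfsg.POmega F ⇑Q)) (hw : wd q r + 3 ≤ Fintype.card ι)
    (hfac : d.factorization r = (Nat.card (Cfsg.POmega F ⇑Q)).factorization r) :
    Two (Cfsg.POmega F ⇑Q) := by
  obtain ⟨t, ht3, ht⟩ := r_orders hG hq h7 hp hr.prime (hr.five hn) hr.ndvd hrd hw
  exact two_main hG hq h7 hp hS hna hL h4 hdeg t ht3 fun n hn => ⟨(ht n hn).2, r, hr.prime, hr.ndvd, (ht n hn).1, hfac⟩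

end

/-! ### the valuations -/

theorem val_odd {q m r c : ℕ} (hq : 2 ≤ q) (hm : 3 ≤ m) (hr : Prim q (2 * (m - 1)) r) (hc0 : c ≠ 0)
    (hc : 2 * c = q ^ (m ^ 2) * ∏ i ∈ Finset.range m, (q ^ (2 * (i + 1)) - 1)) {B : ℕ}
    (hB : (B : ℤ) * (2 * (q - 1)) = q * ((q ^ m - 1) * (q ^ (m - 1) + 1))) :
    r ∣ c ∧ B.factorization r = c.factorization r := by
  obtain ⟨k, rfl⟩ : ∃ k, m = k + 2 := ⟨m - 2, by omega⟩
  rw [show k + 2 - 1 = k + 1 by omega] at hr hB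
  have hn : 3 ≤ 2 * (k + 1) := by omega
  have hT : q ^ (2 * (k + 1)) - 1 ≠ 0 := pow_sub_pos hq (by omega)
  have h1 : c * 2 = (q ^ ((k + 2) ^ 2) * ∏ i ∈ (Finset.range (k + 2)).erase k, (q ^ (2 * (i + 1)) - 1)) *
      (q ^ (2 * (k + 1)) - 1) := by
    rw [mul_comm c 2, hc, prod_split (j := k) (by omega)]
    ring
  have h2 : B * (2 * (q ^ 1 - 1) * (q ^ (k + 1) - 1)) = (q * (q ^ (k + 2) - 1)) * (q ^ (2 * (k + 1)) - 1) := by
    zify
    rw [cast_sub (by omega), cast_sub (by omega), cast_sub (by omega), cast_sub (by omega)]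
    have e : (q : ℤ) ^ (2 * (k + 1)) = q ^ (k + 1) * q ^ (k + 1) := by ring
    rw [e, pow_one]
    linear_combination ((q : ℤ) ^ (k + 1) - 1) * hB
  have hj : ∀ i < k + 2, 2 * (k + 1) ∣ 2 * (i + 1) → i = k := by
    intro i hi hd
    have h3 : k + 1 ∣ i + 1 := Nat.dvd_of_mul_dvd_mul_left (by norm_num) hd
    obtain ⟨a, ha⟩ := h3
    have h4 : a < 2 := by
      by_contra hcon
      have : (k + 1) * 2 ≤ (k + 1) * a := Nat.mul_le_mul_left _ (by omega)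
      omega
    have h5 : a = 1 := by
      have : a ≠ 0 := by rintro rfl; omega
      omega
    subst h5
    omega
  refine ⟨?_, ?_⟩
  · have h3 : r ∣ c * 2 := by
      rw [h1]
      exact Dvd.dvd.mul_left ((hr.iff _).2 dvd_rfl) _
    exact (hr.prime.dvd_mul.1 h3).resolve_right (hr.not_small hn (by norm_num) (by norm_num))
  · have hB0 : B ≠ 0 := by
      rintro rfl
      rw [zero_mul] at h2
      have := mul_ne_zero (mul_ne_zero (show q ≠ 0 by omega) (pow_sub_pos hq (show 0 < k + 2 by omega))) hT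
      exact this h2.symm
    rw [fac_eq h2 (hr.not_mul (hr.not_mul (hr.not_small hn (by norm_num) (by norm_num))
        (hr.not_sub (by omega) (by omega))) (hr.not_sub (by omega) (by omega)))
        (hr.not_mul hr.ndvd (hr.not_sub (by omega) (by omega))) hB0 hT,
      fac_eq h1 (hr.not_small hn (by norm_num) (by norm_num)) (hr.not_mul (hr.not_pow _) (hr.not_prod hj)) hc0 hT]

theorem val_plus {q m r c : ℕ} (hq : 2 ≤ q) (hm : 4 ≤ m) (hr : Prim q (2 * (m - 2)) r) (hc0 : c ≠ 0)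
    (hc : Nat.gcd 4 (q ^ m - 1) * c = q ^ (m * (m - 1)) * (q ^ m - 1) *
      ∏ i ∈ Finset.range (m - 1), (q ^ (2 * (i + 1)) - 1)) {A : ℕ}
    (hA : (A : ℤ) * (q ^ 2 - 1) = q * ((q ^ m - 1) * (q ^ (m - 2) + 1))) :
    r ∣ c ∧ A.factorization r = c.factorization r := by
  obtain ⟨k, rfl⟩ : ∃ k, m = k + 3 := ⟨m - 3, by omega⟩
  rw [show k + 3 - 2 = k + 1 by omega] at hr hA
  rw [show k + 3 - 1 = k + 2 by omega] at hc
  have hn : 3 ≤ 2 * (k + 1) := by omega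
  have hT : (q ^ (k + 3) - 1) * (q ^ (2 * (k + 1)) - 1) ≠ 0 :=
    mul_ne_zero (pow_sub_pos hq (by omega)) (pow_sub_pos hq (by omega))
  have h1 : c * Nat.gcd 4 (q ^ (k + 3) - 1) = (q ^ ((k + 3) * (k + 2)) *
      ∏ i ∈ (Finset.range (k + 2)).erase k, (q ^ (2 * (i + 1)) - 1)) *
      ((q ^ (k + 3) - 1) * (q ^ (2 * (k + 1)) - 1)) := by
    rw [mul_comm c, hc, prod_split (j := k) (by omega)]
    ring
  have h2 : A * ((q ^ 2 - 1) * (q ^ (k + 1) - 1)) = q * ((q ^ (k + 3) - 1) * (q ^ (2 * (k + 1)) - 1)) := by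
    zify
    rw [cast_sub (by omega), cast_sub (by omega), cast_sub (by omega), cast_sub (by omega)]
    have e : (q : ℤ) ^ (2 * (k + 1)) = q ^ (k + 1) * q ^ (k + 1) := by ring
    rw [e]
    linear_combination ((q : ℤ) ^ (k + 1) - 1) * hA
  have hj : ∀ i < k + 2, 2 * (k + 1) ∣ 2 * (i + 1) → i = k := by
    intro i hi hd
    have h3 : k + 1 ∣ i + 1 := Nat.dvd_of_mul_dvd_mul_left (by norm_num) hd
    obtain ⟨a, ha⟩ := h3
    have h4 : a < 2 := by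
      by_contra hcon
      have : (k + 1) * 2 ≤ (k + 1) * a := Nat.mul_le_mul_left _ (by omega)
      omega
    have h5 : a = 1 := by
      have : a ≠ 0 := by rintro rfl; omega
      omega
    subst h5
    omega
  refine ⟨?_, ?_⟩
  · have h3 : r ∣ c * Nat.gcd 4 (q ^ (k + 3) - 1) := by
      rw [h1]
      exact Dvd.dvd.mul_left (Dvd.dvd.mul_left ((hr.iff _).2 dvd_rfl) _) _
    exact (hr.prime.dvd_mul.1 h3).resolve_right (hr.not_gcd hn)
  · have hA0 : A ≠ 0 := by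
      rintro rfl
      rw [zero_mul] at h2
      exact mul_ne_zero (show q ≠ 0 by omega) hT h2.symm
    rw [fac_eq h2 (hr.not_mul (hr.not_sub (by omega) (by omega)) (hr.not_sub (by omega) (by omega))) hr.ndvd hA0 hT,
      fac_eq h1 (hr.not_gcd hn) (hr.not_mul (hr.not_pow _) (hr.not_prod hj)) hc0 hT]

theorem val_minus_odd {q m r c : ℕ} (hq : 2 ≤ q) (hm : 4 ≤ m) (hmo : Odd m) (hr : Prim q (m - 2) r) (hc0 : c ≠ 0)
    (hc : Nat.gcd 4 (q ^ m + 1) * c = q ^ (m * (m - 1)) * (q ^ m + 1) *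
      ∏ i ∈ Finset.range (m - 1), (q ^ (2 * (i + 1)) - 1)) {A : ℕ}
    (hA : (A : ℤ) * (q ^ 2 - 1) = q * ((q ^ m + 1) * (q ^ (m - 2) - 1))) :
    r ∣ c ∧ A.factorization r = c.factorization r := by
  obtain ⟨k, rfl⟩ : ∃ k, m = k + 3 := ⟨m - 3, by omega⟩
  rw [show k + 3 - 2 = k + 1 by omega] at hr hA
  rw [show k + 3 - 1 = k + 2 by omega] at hc
  obtain ⟨l, hl⟩ : ∃ l, k + 1 = 2 * l + 1 := by
    obtain ⟨l, hl⟩ := hmo
    exact ⟨l - 1, by omega⟩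
  have hn : 3 ≤ k + 1 := by omega
  have hcop : Nat.Coprime (k + 1) 2 := by
    rw [hl]
    simp
  have hdv : ∀ a, k + 1 ∣ 2 * a → k + 1 ∣ a := fun a ha => hcop.dvd_of_dvd_mul_left ha
  have hT : q ^ (2 * (k + 1)) - 1 ≠ 0 := pow_sub_pos hq (by omega)
  have h1 : c * Nat.gcd 4 (q ^ (k + 3) + 1) = (q ^ ((k + 3) * (k + 2)) * (q ^ (k + 3) + 1) *
      ∏ i ∈ (Finset.range (k + 2)).erase k, (q ^ (2 * (i + 1)) - 1)) * (q ^ (2 * (k + 1)) - 1) := by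
    rw [mul_comm c, hc, prod_split (j := k) (by omega)]
    ring
  have h2 : A * ((q ^ 2 - 1) * (q ^ (k + 1) + 1)) = (q * (q ^ (k + 3) + 1)) * (q ^ (2 * (k + 1)) - 1) := by
    zify
    rw [cast_sub (by omega), cast_sub (by omega)]
    have e : (q : ℤ) ^ (2 * (k + 1)) = q ^ (k + 1) * q ^ (k + 1) := by ring
    rw [e]
    linear_combination ((q : ℤ) ^ (k + 1) + 1) * hA
  have hadd3 : ¬ r ∣ q ^ (k + 3) + 1 := by
    apply hr.not_add
    intro h3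
    have h4 := hdv _ h3
    have h5 : k + 1 ∣ 2 := (Nat.dvd_add_right (dvd_refl (k + 1))).1 (by rwa [show k + 1 + 2 = k + 3 by omega])
    have := Nat.le_of_dvd (by norm_num) h5
    omega
  have hadd1 : ¬ r ∣ q ^ (k + 1) + 1 := by
    intro h3
    have h4 : r ∣ q ^ (k + 1) - 1 := (hr.iff _).2 dvd_rfl
    have h5 : r ∣ (q ^ (k + 1) + 1) - (q ^ (k + 1) - 1) := Nat.dvd_sub h3 h4
    have h6 : 1 ≤ q ^ (k + 1) := Nat.one_le_pow _ _ (by omega)
    rw [show (q ^ (k + 1) + 1) - (q ^ (k + 1) - 1) = 2 by omega] at h5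
    exact hr.not_small hn (by norm_num) (by norm_num) h5
  have hj : ∀ i < k + 2, k + 1 ∣ 2 * (i + 1) → i = k := by
    intro i hi hd
    obtain ⟨a, ha⟩ := hdv _ hd
    have h4 : a < 2 := by
      by_contra hcon
      have : (k + 1) * 2 ≤ (k + 1) * a := Nat.mul_le_mul_left _ (by omega)
      omega
    have h5 : a = 1 := by
      have : a ≠ 0 := by rintro rfl; omega
      omega
    subst h5
    omega
  refine ⟨?_, ?_⟩
  · have h3 : r ∣ c * Nat.gcd 4 (q ^ (k + 3) + 1) := by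
      rw [h1]
      exact Dvd.dvd.mul_left ((hr.iff _).2 (dvd_mul_left _ _)) _
    exact (hr.prime.dvd_mul.1 h3).resolve_right (hr.not_gcd hn)
  · have hA0 : A ≠ 0 := by
      rintro rfl
      rw [zero_mul] at h2
      exact mul_ne_zero (mul_ne_zero (show q ≠ 0 by omega) (Nat.succ_ne_zero _)) hT h2.symm
    rw [fac_eq h2 (hr.not_mul (hr.not_sub (by omega) (by omega)) hadd1) (hr.not_mul hr.ndvd hadd3) hA0 hT,
      fac_eq h1 (hr.not_gcd hn) (hr.not_mul (hr.not_mul (hr.not_pow _) hadd3) (hr.not_prod hj)) hc0 hT]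

/-- type `-`, `m` even: `n = 2 (m - 1)` or `n = m - 1` -/
theorem val_minus_even {q m n r c : ℕ} (hq : 2 ≤ q) (hm : 4 ≤ m) (hme : Even m) (hn : n = 2 * (m - 1) ∨ n = m - 1)
    (hr : Prim q n r) (hc0 : c ≠ 0)
    (hc : Nat.gcd 4 (q ^ m + 1) * c = q ^ (m * (m - 1)) * (q ^ m + 1) *
      ∏ i ∈ Finset.range (m - 1), (q ^ (2 * (i + 1)) - 1)) {B : ℕ}
    (hB : (B : ℤ) * (q ^ 2 - 1) = q ^ 2 * (q ^ (2 * (m - 1)) - 1)) :
    r ∣ c ∧ B.factorization r = c.factorization r := by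
  obtain ⟨k, rfl⟩ : ∃ k, m = k + 2 := ⟨m - 2, by omega⟩
  rw [show k + 2 - 1 = k + 1 by omega] at hn hB hc
  obtain ⟨l, hl⟩ : ∃ l, k + 1 = 2 * l + 1 := by
    obtain ⟨l, hl⟩ := hme
    exact ⟨l - 1, by omega⟩
  have hn3 : 3 ≤ n := by omega
  have hcop : Nat.Coprime (k + 1) 2 := by
    rw [hl]
    simp
  have hdv : ∀ a, n ∣ 2 * a → k + 1 ∣ a := by
    intro a ha
    have h1 : k + 1 ∣ 2 * a := by
      rcases hn with rfl | rfl
      · exact (dvd_mul_left _ _).trans ha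
      · exact ha
    exact hcop.dvd_of_dvd_mul_left h1
  have hn2 : n ∣ 2 * (k + 1) := by
    rcases hn with rfl | rfl
    · exact dvd_rfl
    · exact dvd_mul_left _ _
  have hT : q ^ (2 * (k + 1)) - 1 ≠ 0 := pow_sub_pos hq (by omega)
  have h1 : c * Nat.gcd 4 (q ^ (k + 2) + 1) = (q ^ ((k + 2) * (k + 1)) * (q ^ (k + 2) + 1) *
      ∏ i ∈ (Finset.range (k + 1)).erase k, (q ^ (2 * (i + 1)) - 1)) * (q ^ (2 * (k + 1)) - 1) := by
    rw [mul_comm c, hc, prod_split (j := k) (by omega)]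
    ring
  have h2 : B * (q ^ 2 - 1) = q ^ 2 * (q ^ (2 * (k + 1)) - 1) := by
    zify
    rw [cast_sub (by omega), cast_sub (by omega)]
    exact hB
  have hadd3 : ¬ r ∣ q ^ (k + 2) + 1 := by
    apply hr.not_add
    intro h3
    have h4 := hdv _ h3
    have h5 : k + 1 ∣ 1 := (Nat.dvd_add_right (dvd_refl (k + 1))).1 (by rwa [show k + 1 + 1 = k + 2 by omega])
    have := Nat.le_of_dvd (by norm_num) h5
    omega
  have hj : ∀ i < k + 1, n ∣ 2 * (i + 1) → i = k := by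
    intro i hi hd
    obtain ⟨a, ha⟩ := hdv _ hd
    have h4 : a < 2 := by
      by_contra hcon
      have : (k + 1) * 2 ≤ (k + 1) * a := Nat.mul_le_mul_left _ (by omega)
      omega
    have h5 : a = 1 := by
      have : a ≠ 0 := by rintro rfl; omega
      omega
    subst h5
    omega
  refine ⟨?_, ?_⟩
  · have h3 : r ∣ c * Nat.gcd 4 (q ^ (k + 2) + 1) := by
      rw [h1]
      exact Dvd.dvd.mul_left ((hr.iff _).2 hn2) _
    exact (hr.prime.dvd_mul.1 h3).resolve_right (hr.not_gcd hn3)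
  · have hB0 : B ≠ 0 := by
      rintro rfl
      rw [zero_mul] at h2
      exact mul_ne_zero (pow_ne_zero 2 (show q ≠ 0 by omega)) hT h2.symm
    rw [fac_eq h2 (hr.not_sub (by omega) (by omega)) (hr.not_pow _) hB0 hT,
      fac_eq h1 (hr.not_gcd hn3) (hr.not_mul (hr.not_mul (hr.not_pow _) hadd3) (hr.not_prod hj)) hc0 hT]

end Cfsg.Agent.H397.Rk
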