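import Cfsg.Agent.H397.Rk.TwoB

/-!
# Fixed vectors modulo `r`; anisotropic planes (helper397)
-/

set_option autoImplicit false
set_option linter.unusedSectionVars false
set_option linter.style.haveILetI false

namespace Cfsg.Agent.H397.Rk

open QuadraticMap Cfsg Cfsg.Agent.LieClassical.OrthCore Cfsg.Agent.LieClassical.OrthTrans
  Cfsg.Agent.LieClassical.OrthSimple Cfsg.Agent.LieClassical.OrthFinite
  Cfsg.Agent.ClassicalGeometry.OrthAut1 Cfsg.Agent.ClassicalGeometry.OrthAut2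
  Cfsg.Agent.ClassicalGeometry.OrthAut3 Cfsg.Agent.H504.TwoZ Cfsg.Agent.H504.Zeros

theorem end_pow_apply {α : Type*} (g : Function.End α) (k : ℕ) (x : α) : (g ^ k) x = (g : α → α)^[k] x := by
  induction k generalizing x with
  | zero => rfl
  | succ k ih =>
    rw [pow_succ]
    exact ih (g x)

/-- counting fixed points of a map of prime order -/
theorem card_fix_modEq {α : Type*} [Finite α] (f : α → α) {r : ℕ} (hr : r.Prime) (hf : ∀ x, f^[r] x = x) :
    Nat.card α ≡ Nat.card {x : α // f x = x} [MOD r] := by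
  classical
  haveI : Fact r.Prime := ⟨hr⟩
  haveI := Fintype.ofFinite α
  let g : Function.End α := f
  have h1 : g ^ r ^ 1 = 1 := by
    rw [pow_one]
    funext x
    rw [end_pow_apply]
    exact hf x
  have h3 := Equiv.Perm.card_fixedPoints_modEq (α := α) (f := g) h1
  rw [← Nat.card_eq_fintype_card, ← Nat.card_eq_fintype_card] at h3
  exact h3

variable {F : Type} [Field F] [Fintype F] {ι : Type} [Fintype ι] [DecidableEq ι] {Q : QuadraticForm F (ι → F)}

theorem iter_apply (y : ↥(E Q)) (k : ℕ) (v : ι → F) :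
    (fun x => (y : (ι → F) ≃ₗ[F] (ι → F)) x)^[k] v = ((y ^ k : ↥(E Q)) : (ι → F) ≃ₗ[F] (ι → F)) v := by
  induction k generalizing v with
  | zero => rfl
  | succ k ih =>
    rw [Function.iterate_succ_apply, ih, pow_succ]
    rfl

theorem iter_ord {y : ↥(E Q)} {r : ℕ} (hy : orderOf y = r) (v : ι → F) :
    (fun x => (y : (ι → F) ≃ₗ[F] (ι → F)) x)^[r] v = v := by
  rw [iter_apply, ← hy, pow_orderOf_eq_one]
  rfl

theorem sq_sub1 {q : ℕ} : q ^ 2 - 1 = (q ^ 1 - 1) * (q ^ 1 + 1) := by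
  have h := sq_sub (q := q) (k := 1)
  rwa [mul_one] at h

/-- an element of prime order `r` fixing a subspace of codimension at most two -/
theorem dvd_of_fix {q r : ℕ} (hq : Fintype.card F = q) (hr : r.Prime) (hrq : ¬ r ∣ q) {s : ↥(E Q)}
    (hs : orderOf s = r) {Y : Submodule F (ι → F)} (hY : ∀ x ∈ Y, (s : (ι → F) ≃ₗ[F] (ι → F)) x = x)
    (hd : Fintype.card ι ≤ Module.finrank F Y + 2) : r ∣ q ^ 2 - 1 := by
  have hq2 : 2 ≤ q := hq ▸ Fintype.one_lt_card
  set X : Submodule F (ι → F) :=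
    LinearMap.ker ((s : (ι → F) ≃ₗ[F] (ι → F)).toLinearMap - LinearMap.id) with hX
  have hmem : ∀ x, x ∈ X ↔ (s : (ι → F) ≃ₗ[F] (ι → F)) x = x := by
    intro x
    rw [hX, LinearMap.mem_ker, LinearMap.sub_apply, LinearMap.id_apply, sub_eq_zero]
    rfl
  have hYX : Y ≤ X := fun x hx => (hmem x).2 (hY x hx)
  have h1 : Module.finrank F Y ≤ Module.finrank F X := Submodule.finrank_mono hYX
  have h2 : Module.finrank F X ≤ Fintype.card ι := by
    have := Submodule.finrank_le X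
    rwa [Module.finrank_fintype_fun_eq_card] at this
  have h3 : Module.finrank F X ≠ Fintype.card ι := by
    intro h
    have h4 : X = ⊤ := by
      apply Submodule.eq_top_of_finrank_eq
      rw [h, Module.finrank_fintype_fun_eq_card]
    have h5 : s = 1 := by
      apply Subtype.ext
      ext x
      have h6 : x ∈ X := by rw [h4]; trivial
      rw [(hmem x).1 h6]
      rfl
    rw [h5, orderOf_one] at hs
    exact hr.one_lt.ne hs
  have h4 := card_fix_modEq (fun x : ι → F => (s : (ι → F) ≃ₗ[F] (ι → F)) x) hr (iter_ord hs)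
  have h5 : Nat.card {x : ι → F // (s : (ι → F) ≃ₗ[F] (ι → F)) x = x} = q ^ Module.finrank F X := by
    have h6 : Nat.card X = q ^ Module.finrank F X := by
      rw [← hq, ← Nat.card_eq_fintype_card]
      exact Module.natCard_eq_pow_finrank
    rw [← h6]
    exact Nat.card_congr (Equiv.subtypeEquivRight fun x => (hmem x).symm)
  have h6 : Nat.card (ι → F) = q ^ Fintype.card ι := by
    rw [Nat.card_eq_fintype_card, Fintype.card_fun, hq]
  have h7 : q ^ Fintype.card ι ≡ q ^ Module.finrank F X [MOD r] := by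
    rw [← h5, ← h6]
    exact h4
  obtain ⟨j, hj⟩ : ∃ j, Fintype.card ι = Module.finrank F X + j := ⟨_, (Nat.add_sub_cancel' h2).symm⟩
  have hj12 : j = 1 ∨ j = 2 := by omega
  have h8 : r ∣ q ^ Module.finrank F X * (q ^ j - 1) := by
    have h9 : q ^ Module.finrank F X * (q ^ j - 1) = q ^ Fintype.card ι - q ^ Module.finrank F X := by
      rw [hj, pow_add, Nat.mul_sub, mul_one]
    rw [h9]
    exact (Nat.modEq_iff_dvd' (Nat.pow_le_pow_right (by omega) (by omega))).1 h7.symm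
  have h9 : r ∣ q ^ j - 1 := (hr.dvd_mul.1 h8).resolve_left fun h => hrq (hr.dvd_of_dvd_pow h)
  rcases hj12 with rfl | rfl
  · rw [sq_sub1]
    exact Dvd.dvd.mul_right h9 _
  · exact h9

/-- `#{(a, b) | a b = 0}` -/
theorem card_mul_zero {q : ℕ} (hq : Fintype.card F = q) : Nat.card {p : F × F // p.1 * p.2 = 0} = 2 * q - 1 := by
  classical
  have hq2 : 2 ≤ q := hq ▸ Fintype.one_lt_card
  rw [Nat.card_eq_fintype_card, Fintype.card_subtype, Finset.card_filter, Fintype.sum_prod_type]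
  have h : ∀ a : F, (∑ b : F, if a * b = 0 then 1 else 0) = 1 + if a = 0 then (q - 1) else 0 := by
    intro a
    by_cases ha : a = 0
    · subst ha
      simp only [zero_mul, if_true, Finset.sum_const, Finset.card_univ, hq, smul_eq_mul, mul_one]
      omega
    · simp [ha]
  have h1 : (∑ a : F, (1 + if a = 0 then (q - 1) else 0)) = q + (q - 1) := by
    rw [Finset.sum_add_distrib, Finset.sum_ite_eq' Finset.univ (0 : F) fun _ => q - 1]
    simp [hq]
  calc (∑ x : F, ∑ y : F, if (x, y).1 * (x, y).2 = 0 then 1 else 0) = ∑ a : F, (1 + if a = 0 then (q - 1) else 0) :=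
        Finset.sum_congr rfl fun a _ => h a
    _ = q + (q - 1) := h1
    _ = 2 * q - 1 := by omega

/-- a hyperbolic plane -/
theorem card_sing_plane {q : ℕ} (hq : Fintype.card F = q) {X : Submodule F (ι → F)} (hX : NDs Q X)
    (h2 : Module.finrank F X = 2) {u : ι → F} (hu : u ∈ X) (hu0 : u ≠ 0) (hQu : Q u = 0) :
    Nat.card {v : ι → F // v ∈ X ∧ Q v = 0} = 2 * q - 1 := by
  obtain ⟨w, hwX, huw⟩ : ∃ w ∈ X, polar Q u w ≠ 0 := by
    by_contra hcon
    push Not at hcon
    exact hu0 (hX u hu hcon)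
  obtain ⟨u', hu'X, hu'1, hQu'⟩ : ∃ u' ∈ X, polar Q u u' = 1 ∧ Q u' = 0 := by
    obtain ⟨w1, hw1X, h3⟩ : ∃ w1 ∈ X, polar Q u w1 = 1 := ⟨(polar Q u w)⁻¹ • w, X.smul_mem _ hwX, by
      rw [polar_smul_right, smul_eq_mul, inv_mul_cancel₀ huw]⟩
    have h3' : polar Q w1 u = 1 := by rw [polar_comm, h3]
    refine ⟨w1 + (-Q w1) • u, X.add_mem hw1X (X.smul_mem _ hu), ?_, ?_⟩
    · rw [polar_add_right, polar_smul_right, h3, polar_self_of_sing hQu, smul_zero, add_zero]
    · rw [Q_add, QuadraticMap.map_smul, hQu, smul_zero, add_zero, polar_smul_right, h3', smul_eq_mul, mul_one]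
      ring
  have e1 : ∀ a b : F, polar Q (a • u + b • u') u' = a := by
    intro a b
    rw [polar_add_left, polar_smul_left, polar_smul_left, hu'1, polar_self_of_sing hQu', smul_zero, add_zero,
      smul_eq_mul, mul_one]
  have e2 : ∀ a b : F, polar Q (a • u + b • u') u = b := by
    intro a b
    rw [polar_add_left, polar_smul_left, polar_smul_left, polar_comm Q u' u, hu'1, polar_self_of_sing hQu,
      smul_zero, zero_add, smul_eq_mul, mul_one]
  have e3 : ∀ a b : F, Q (a • u + b • u') = a * b := by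
    intro a b
    rw [Q_add, QuadraticMap.map_smul, QuadraticMap.map_smul, hQu, hQu', smul_zero, smul_zero, polar_smul_left,
      polar_smul_right, hu'1, smul_eq_mul, smul_eq_mul]
    ring
  let φ : (F × F) →ₗ[F] X :=
    { toFun := fun p => ⟨p.1 • u + p.2 • u', X.add_mem (X.smul_mem _ hu) (X.smul_mem _ hu'X)⟩
      map_add' := fun p p' => Subtype.ext (by
        show (p.1 + p'.1) • u + (p.2 + p'.2) • u' = (p.1 • u + p.2 • u') + (p'.1 • u + p'.2 • u')
        module)
      map_smul' := fun c p => Subtype.ext (by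
        show (c * p.1) • u + (c * p.2) • u' = c • (p.1 • u + p.2 • u')
        module) }
  have hinj : Function.Injective φ := by
    intro p p' h
    have h3 : p.1 • u + p.2 • u' = p'.1 • u + p'.2 • u' := congrArg Subtype.val h
    refine Prod.ext ?_ ?_
    · rw [← e1 p.1 p.2, h3, e1]
    · rw [← e2 p.1 p.2, h3, e2]
  have hsurj : Function.Surjective φ :=
    (LinearMap.injective_iff_surjective_of_finrank_eq_finrank (by
      rw [h2, Module.finrank_prod, Module.finrank_self])).1 hinj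
  rw [← card_mul_zero hq]
  refine (Nat.card_congr (Equiv.ofBijective (fun p : {p : F × F // p.1 * p.2 = 0} =>
    (⟨p.1.1 • u + p.1.2 • u', X.add_mem (X.smul_mem _ hu) (X.smul_mem _ hu'X), by rw [e3]; exact p.2⟩ :
      {v : ι → F // v ∈ X ∧ Q v = 0})) ⟨?_, ?_⟩)).symm
  · intro p p' h
    have h3 := congrArg Subtype.val h
    exact Subtype.ext (hinj (Subtype.ext h3))
  · rintro ⟨v, hv, hQv⟩
    obtain ⟨p, hp⟩ := hsurj ⟨v, hv⟩
    have h3 : p.1 • u + p.2 • u' = v := congrArg Subtype.val hp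
    refine ⟨⟨p, ?_⟩, Subtype.ext h3⟩
    rw [← e3, h3, hQv]

/-- the fixed plane of `y` is anisotropic -/
theorem aniso {q r W : ℕ} (hq : Fintype.card F = q) (hr : r.Prime) (hr2 : ¬ r ∣ 2) (hr1 : ¬ r ∣ q - 1)
    {y : ↥(E Q)} {X : Submodule F (ι → F)} (h : Elt Q r W y X) (h2 : Module.finrank F X = 2)
    (hc : Nat.card {v : ι → F // Q v = 0} ≡ 1 [MOD r]) : ∀ x ∈ X, Q x = 0 → x = 0 := by
  intro u hu hQu
  by_contra hu0
  have hq2 : 2 ≤ q := hq ▸ Fintype.one_lt_card
  let f : {v : ι → F // Q v = 0} → {v : ι → F // Q v = 0} :=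
    fun v => ⟨(y : (ι → F) ≃ₗ[F] (ι → F)) v, (Q_apply y v.1).trans v.2⟩
  have hf : ∀ (k : ℕ) (v : {v : ι → F // Q v = 0}), ((f^[k] v : {v : ι → F // Q v = 0}) : ι → F) =
      (fun x => (y : (ι → F) ≃ₗ[F] (ι → F)) x)^[k] v := by
    intro k
    induction k with
    | zero => intro v; rfl
    | succ k ih =>
      intro v
      rw [Function.iterate_succ_apply, ih, Function.iterate_succ_apply]
  have h3 := card_fix_modEq f hr (fun v => Subtype.ext (by rw [hf, iter_ord h.ord]))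
  have h4 : Nat.card {v : {v : ι → F // Q v = 0} // f v = v} = 2 * q - 1 := by
    rw [← card_sing_plane hq h.nd h2 hu hu0 hQu]
    refine Nat.card_congr ⟨fun v => ⟨v.1.1, (h.mem _).2 (congrArg Subtype.val v.2), v.1.2⟩,
      fun v => ⟨⟨v.1, v.2.2⟩, Subtype.ext ((h.mem _).1 v.2.1)⟩, fun v => rfl, fun v => rfl⟩
  rw [h4] at h3
  have h5 : 1 ≡ 2 * q - 1 [MOD r] := hc.symm.trans h3
  have h6 : r ∣ 2 * q - 1 - 1 := (Nat.modEq_iff_dvd' (by omega)).1 h5
  rw [show 2 * q - 1 - 1 = 2 * (q - 1) by omega] at h6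
  rcases hr.dvd_mul.1 h6 with h7 | h7
  · exact hr2 h7
  · exact hr1 h7

/-- the order `r n` when the fixed plane is anisotropic -/
theorem exists_rn (hG : Good Q) {q r W : ℕ} (hq : Fintype.card F = q) (hr : r.Prime) (hr2 : ¬ r ∣ 2) (hrq : ¬ r ∣ q)
    (hr1 : ¬ r ∣ q ^ 2 - 1) {y : ↥(E Q)} {X : Submodule F (ι → F)} (h : Elt Q r W y X)
    (h2 : Module.finrank F X = 2) (h3 : 3 ≤ Fintype.card ι)
    (hc : Nat.card {v : ι → F // Q v = 0} ≡ 1 [MOD r]) : ∃ n : ℕ, n ≠ 1 ∧ n ≠ 0 ∧ HasOrd (P Q) (r * n) := by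
  have hr1' : ¬ r ∣ q - 1 := by
    intro h4
    apply hr1
    rw [sq_sub1, pow_one]
    exact Dvd.dvd.mul_right h4 _
  obtain ⟨v, hv, w, hw, hQv, hQw, hvw, hne⟩ := exists_pair_aniso (Q := Q) (X := X) h2.ge (aniso hq hr hr2 hr1' h h2 hc)
  have hne1 := rr_ne_one hG hQv hQw hvw hne
  have hfin : Module.finrank F (⊤ : Submodule F (ι → F)) ≤ Module.finrank F (pp Q ⊤ v w) + 2 := finrank_pp _ v w
  rw [finrank_top, Module.finrank_fintype_fun_eq_card] at hfin
  have hfix : ∀ x ∈ pp Q ⊤ v w, (rr hG hQv hQw hvw : (ι → F) ≃ₗ[F] (ι → F)) x = x := fun x hx =>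
    rr_fix hG hQv hQw _ (mem_pp.1 hx).1.2 (mem_pp.1 hx).2
  obtain ⟨z, hz, hz0⟩ := exists_zero_vec (X := pp Q ⊤ v w) (by omega)
  haveI : Finite ((ι → F) ≃ₗ[F] (ι → F)) := Finite.of_injective (fun g => (g : (ι → F) → (ι → F)))
    (fun g h hgh => LinearEquiv.ext fun x => congrFun hgh x)
  haveI hfinE : Finite ↥(E Q) := inferInstance
  have hcop : ¬ r ∣ orderOf (rr hG hQv hQw hvw) := by
    rintro ⟨k, hk⟩
    have hpos : 0 < orderOf (rr hG hQv hQw hvw) := orderOf_pos _
    have hk0 : k ≠ 0 := by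
      rintro rfl
      omega
    have h4 : orderOf (rr hG hQv hQw hvw ^ k) = r := by
      rw [orderOf_pow_of_dvd hk0 ⟨r, by rw [hk, mul_comm]⟩, hk, Nat.mul_div_cancel _ (by omega)]
    exact hr1 (dvd_of_fix hq hr hrq h4 (fun x hx => coe_pow_apply _ (hfix x hx) k) hfin)
  refine ⟨orderOf (rr hG hQv hQw hvw), ?_, (orderOf_pos _).ne', ?_⟩
  · rw [Ne, orderOf_eq_one_iff]
    exact hne1
  · refine hasOrd_mul (orderOf_mk_of_prime hG hr (by rintro rfl; exact hr2 dvd_rfl) h.ord)
      (orderOf_mk_of_fix hG hz0 (hfix z hz)) (rr_loc hG hQv hQw _ hv hw y fun x hx => (h.mem x).1 hx)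
      ((Nat.Prime.coprime_iff_not_dvd hr).2 hcop)

end Cfsg.Agent.H397.Rk
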