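import Cfsg.Agent.H397.Rk.TwoRowsO
import Cfsg.Agent.H713.Two.OMinusEight
import Cfsg.Agent.H713.Two.OPlusTen

/-!
# The orthogonal rows of S4897, all cases (helper397)
-/

set_option autoImplicit false

namespace Cfsg.Agent.H397.Rk

open Cfsg Cfsg.Agent.H504.TwoZ Cfsg.Agent.H504.Zeros

theorem rowT_oplus (F : Type) [Field F] [Fintype F] (m : ℕ) (hm : 4 ≤ m) :
    RowT (POmega F (quadFormPlus m F)) := by
  by_cases h : Fintype.card F = 2 ∧ m = 5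
  · obtain ⟨h1, rfl⟩ := h
    exact ⟨Cfsg.Agent.H713.Two.OTwo.row1_oplus_two h1, row2_oplus F 5 hm⟩
  · exact rowT_oplus_gen F m hm h

theorem rowT_ominus (F : Type) [Field F] [Fintype F] (m : ℕ) (a b : F) (hm : 4 ≤ m)
    (hab : ∀ z₁ z₂ : F, z₁ ^ 2 + a * z₁ * z₂ + b * z₂ ^ 2 = 0 → z₁ = 0 ∧ z₂ = 0) :
    RowT (POmega F (quadFormMinus (m - 1) F a b)) := by
  by_cases h : Fintype.card F = 2 ∧ m = 4
  · obtain ⟨h1, rfl⟩ := h
    exact ⟨Cfsg.Agent.H713.Two.OTwo.row1_ominus_two h1 a b hab, row2_ominus F 4 a b hm hab⟩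
  · exact rowT_ominus_gen F m a b hm hab h

end Cfsg.Agent.H397.Rk
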